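import Mathlib
import Cfsg.Prelude.Def_Solvable
import Cfsg.Agent.FGS80.Kegel
import Cfsg.Agent.Lib.PGroup.Basic

/-!
# Components of a partition of a finite group

A partition is replaced by its conjugation invariant refinement, described by the function
sending an element to its component.
-/

set_option autoImplicit false
set_option linter.unusedSectionVars false

namespace Cfsg.Agent.PartitionGroups45

open Subgroup

variable {G : Type*} [Group G]

/-- The component function of a conjugation invariant nontrivial partition. -/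
structure Comp (G : Type*) [Group G] where
  /-- the component containing an element -/
  comp : G → Subgroup G
  mem : ∀ g, g ≠ 1 → g ∈ comp g
  eq_of_mem : ∀ g h, g ≠ 1 → h ∈ comp g → h ≠ 1 → comp h = comp g
  conj_mem : ∀ x g h, h ∈ comp g → x * h * x⁻¹ ∈ comp (x * g * x⁻¹)
  ne_top : ∀ g, g ≠ 1 → comp g ≠ ⊤

/-- Every nontrivial partition has a conjugation invariant refinement. -/
theorem exists_comp (S : Set (Subgroup G)) (hS2 : ∃ H ∈ S, ∃ K ∈ S, H ≠ K)
    (hS1 : ∀ H ∈ S, H ≠ ⊥) (hpart : ∀ g : G, g ≠ 1 → ∃! H : Subgroup G, H ∈ S ∧ g ∈ H) :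
    Nonempty (Comp G) := by
  classical
  let C : G → Subgroup G := fun g => if h : g = 1 then ⊥ else (hpart g h).choose
  have hC : ∀ g, g ≠ 1 → C g ∈ S ∧ g ∈ C g ∧ ∀ H ∈ S, g ∈ H → H = C g := by
    intro g hg
    have h := (hpart g hg).choose_spec
    simp only [C, dif_neg hg]
    exact ⟨h.1.1, h.1.2, fun H hH hgH => h.2 H ⟨hH, hgH⟩⟩
  have hne : ∀ x g : G, g ≠ 1 → x * g * x⁻¹ ≠ 1 := fun x g hg h => hg (conj_eq_one_iff.mp h)
  refine ⟨⟨fun g => ⨅ x : G, (C (x * g * x⁻¹)).comap (MulAut.conj x).toMonoidHom, ?_, ?_, ?_, ?_⟩⟩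
  · intro g hg
    simp only [mem_iInf, mem_comap]
    intro x
    exact (hC _ (hne x g hg)).2.1
  · intro g h hg hh hh1
    simp only [mem_iInf, mem_comap] at hh
    refine iInf_congr fun x => ?_
    rw [(hC _ (hne x h hh1)).2.2 _ (hC _ (hne x g hg)).1 (hh x)]
  · intro x g h hh
    simp only [mem_iInf, mem_comap] at hh ⊢
    intro y
    have := hh (y * x)
    simpa [mul_assoc] using this
  · intro g hg htop
    have h1 : C g = ⊤ := by
      rw [eq_top_iff, ← htop]
      intro h hh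
      simp only [mem_iInf, mem_comap] at hh
      simpa using hh 1
    obtain ⟨H, hH, K, hK, hHK⟩ := hS2
    have key : ∀ H ∈ S, H = ⊤ := by
      intro H hH
      obtain ⟨⟨h, hh⟩, hh1⟩ := Subgroup.ne_bot_iff_exists_ne_one.1 (hS1 H hH)
      have hh' : h ≠ 1 := fun e => hh1 (Subtype.ext e)
      rw [(hC h hh').2.2 H hH hh, ← (hC h hh').2.2 (C g) (hC g hg).1 (h1 ▸ mem_top h), h1]
    exact hHK ((key H hH).trans (key K hK).symm)

/-- The alternatives which every branch of the proof can end in. -/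
def Outcome (G : Type*) [Group G] : Prop :=
  (∃ p : ℕ, p.Prime ∧ Subgroup.closure {g : G | g ^ p ≠ 1} ≠ ⊤) ∨
    ∃ H : Subgroup G, Cfsg.IsFrobeniusComplement H

theorem outcome_hughes {p : ℕ} (hp : p.Prime) (W : Subgroup G) (hW : W ≠ ⊤)
    (h : ∀ g, g ∉ W → g ^ p = 1) : Outcome G :=
  Or.inl ⟨p, hp, fun e => hW (eq_top_iff.mpr (e ▸ (closure_le _).mpr fun g hg =>
    by_contra fun hgW => hg (h g hgW)))⟩

/-- A power outside a subgroup whose prime power lies in it. -/
theorem exists_prime_step (W : Subgroup G) : ∀ (n : ℕ) (g : G), 0 < n → g ∉ W → g ^ n ∈ W →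
    ∃ k r : ℕ, r.Prime ∧ r ∣ n ∧ g ^ k ∉ W ∧ (g ^ k) ^ r ∈ W := by
  intro n
  induction n using Nat.strong_induction_on with
  | _ n ih =>
    intro g hn hg hgn
    have hn1 : n ≠ 1 := fun e => hg (by simpa [e] using hgn)
    have hr := Nat.minFac_prime hn1
    have hd := Nat.minFac_dvd n
    by_cases h : g ^ (n / n.minFac) ∈ W
    · obtain ⟨k, r, hr', hrd, hk, hk'⟩ := ih (n / n.minFac) (Nat.div_lt_self hn hr.one_lt) g
        (Nat.div_pos (Nat.le_of_dvd hn hd) hr.pos) hg h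
      exact ⟨k, r, hr', hrd.trans (Nat.div_dvd_of_dvd hd), hk, hk'⟩
    · exact ⟨_, _, hr, hd, h, by rwa [← pow_mul, Nat.div_mul_cancel hd]⟩

/-- A `p`-element normalising a nontrivial `p`-subgroup commutes with one of its elements. -/
theorem exists_commute_ne_one [Finite G] {p : ℕ} [Fact p.Prime] {U : Subgroup G}
    (hU : IsPGroup p U) (hU1 : U ≠ ⊥) {z : G} (hz : z ∈ normalizer (U : Set G)) {k : ℕ}
    (hk : z ^ p ^ k = 1) : ∃ u ∈ U, u ≠ 1 ∧ Commute z u := by
  have hZ : IsPGroup p (zpowers z) := fun ⟨x, hx⟩ => by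
    obtain ⟨j, rfl⟩ := mem_zpowers_iff.mp hx
    refine ⟨k, Subtype.ext ?_⟩
    show (z ^ j) ^ p ^ k = 1
    rw [← zpow_natCast, ← zpow_mul, mul_comm, zpow_mul, zpow_natCast, hk, one_zpow]
  set H := U ⊔ zpowers z with hH
  have hHp : IsPGroup p H := hU.to_sup_of_normal_left' hZ (by rwa [zpowers_le])
  have hn : (U.subgroupOf H).Normal :=
    normal_subgroupOf_of_le_normalizer (sup_le le_normalizer (by rwa [zpowers_le]))
  have hne : U.subgroupOf H ≠ ⊥ := fun e => hU1
    ((inf_of_le_left (le_sup_left : U ≤ H)).symm.trans (disjoint_iff.mp (subgroupOf_eq_bot.mp e)))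
  obtain ⟨⟨u, hu, huc⟩, hu1⟩ := Subgroup.ne_bot_iff_exists_ne_one.1
    (PGroup.inf_center_ne_bot (N := U.subgroupOf H) hHp hne)
  refine ⟨(u : G), hu, fun e => hu1 (Subtype.ext (Subtype.ext e)), ?_⟩
  exact congrArg Subtype.val (mem_center_iff.mp huc ⟨z, mem_sup_right (mem_zpowers z)⟩)

namespace Comp

variable (P : Comp G)

theorem eq_of_pow {x : G} {n : ℕ} (h : x ^ n ≠ 1) : P.comp (x ^ n) = P.comp x := by
  have hx : x ≠ 1 := fun e => h (by rw [e, one_pow])
  exact P.eq_of_mem x _ hx (pow_mem (P.mem x hx) n) h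

theorem mem_of_pow_mem {g z : G} {k : ℕ} (hg : g ≠ 1) (h : z ^ k ∈ P.comp g) (h1 : z ^ k ≠ 1) :
    z ∈ P.comp g := by
  rw [← P.eq_of_mem g _ hg h h1, P.eq_of_pow h1]
  exact P.mem z fun e => h1 (by rw [e, one_pow])

/-- The elements outside a component have all their powers outside, or trivial. -/
theorem pow_eq_one_of_not_mem {g z : G} {k : ℕ} (hg : g ≠ 1) (hz : z ∉ P.comp g)
    (h : z ^ k ∈ P.comp g) : z ^ k = 1 :=
  by_contra fun h1 => hz (P.mem_of_pow_mem hg h h1)

theorem disjoint {g h x : G} (hg : g ≠ 1) (hh : h ≠ 1) (hx : x ∈ P.comp g) (hx' : x ∈ P.comp h)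
    (hx1 : x ≠ 1) : P.comp g = P.comp h :=
  (P.eq_of_mem g x hg hx hx1).symm.trans (P.eq_of_mem h x hh hx' hx1)

theorem comp_conj {g : G} (hg : g ≠ 1) (x h : G) :
    h ∈ P.comp (x * g * x⁻¹) ↔ x⁻¹ * h * x ∈ P.comp g := by
  constructor
  · intro hh
    have := P.conj_mem x⁻¹ _ _ hh
    simpa [mul_assoc] using this
  · intro hh
    have := P.conj_mem x _ _ hh
    simpa [mul_assoc] using this

/-- An element mapping a nontrivial element of a component into it normalises the component. -/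
theorem mem_norm_of_conj_mem {g v x : G} (hg : g ≠ 1) (hv : v ∈ P.comp g) (hv1 : v ≠ 1)
    (h : x * v * x⁻¹ ∈ P.comp g) : x ∈ normalizer (P.comp g : Set G) := by
  have e1 : P.comp v = P.comp g := P.eq_of_mem g v hg hv hv1
  have e2 : P.comp (x * v * x⁻¹) = P.comp g :=
    P.eq_of_mem g _ hg h fun e => hv1 (conj_eq_one_iff.mp e)
  refine Subgroup.mem_normalizer_iff.mpr fun y => ⟨fun hy => ?_, fun hy => ?_⟩
  · rw [← e1] at hy
    exact e2 ▸ P.conj_mem x _ _ hy
  · rw [← e2, P.comp_conj hv1, e1] at hy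
    simpa [mul_assoc] using hy

theorem mem_norm_of_commute {g v x : G} (hg : g ≠ 1) (hv : v ∈ P.comp g) (hv1 : v ≠ 1)
    (h : Commute x v) : x ∈ normalizer (P.comp g : Set G) :=
  P.mem_norm_of_conj_mem hg hv hv1 (by rw [h.eq, mul_inv_cancel_right]; exact hv)

theorem mem_symm {x y : G} (hy : y ≠ 1) (hx : x ≠ 1) (h : x ∈ P.comp y) : y ∈ P.comp x := by
  rw [P.eq_of_mem y x hy h hx]; exact P.mem y hy

theorem orderOf_dvd_of_commute {x y : G} (h : Commute x y) (hx : x ≠ 1) (hne : y ∉ P.comp x) :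
    x ^ orderOf y = 1 := by
  by_contra h1
  have hy1 : y ≠ 1 := fun e => hne (e ▸ one_mem _)
  have hz : (x * y) ^ orderOf y = x ^ orderOf y := by rw [h.mul_pow, pow_orderOf_eq_one, mul_one]
  have e : P.comp (x * y) = P.comp x := by
    rw [← P.eq_of_pow (hz ▸ h1), hz, P.eq_of_pow h1]
  have hxy : x * y ≠ 1 := fun e' => h1 (by rw [← hz, e', one_pow])
  have : x * y ∈ P.comp x := e ▸ P.mem _ hxy
  exact hne (by simpa using mul_mem (inv_mem (P.mem x hx)) this)

/-- Commuting elements of different components have the same prime order. -/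
theorem orderOf_of_commute [Finite G] {x y : G} (h : Commute x y) (hx : x ≠ 1)
    (hne : y ∉ P.comp x) : ∃ p, p.Prime ∧ orderOf x = p ∧ orderOf y = p := by
  have hy : y ≠ 1 := fun e => hne (e ▸ one_mem _)
  have key : ∀ x : G, x ≠ 1 → Commute x y → y ∉ P.comp x → orderOf x = orderOf y := fun x hx h hne =>
    Nat.dvd_antisymm (orderOf_dvd_of_pow_eq_one (P.orderOf_dvd_of_commute h hx hne))
      (orderOf_dvd_of_pow_eq_one (P.orderOf_dvd_of_commute h.symm hy
        fun h' => hne (P.mem_symm hy hx h')))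
  have e := key x hx h hne
  refine ⟨orderOf x, ?_, rfl, e.symm⟩
  have hn1 : orderOf x ≠ 1 := fun e' => hx (orderOf_eq_one_iff.mp e')
  by_contra hnp
  have hd := Nat.minFac_dvd (orderOf x)
  have hr := Nat.minFac_prime hn1
  have hne1 : (orderOf x).minFac ≠ orderOf x := fun e' => hnp (e' ▸ hr)
  have hxd : x ^ (orderOf x).minFac ≠ 1 := fun e' =>
    hne1 (Nat.dvd_antisymm hd (orderOf_dvd_of_pow_eq_one e'))
  have e2 := key _ hxd (h.pow_left _) (by rwa [P.eq_of_pow hxd])
  rw [← e, orderOf_pow_of_dvd hr.ne_zero hd] at e2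
  exact absurd e2 (Nat.div_lt_self (orderOf_pos x) hr.one_lt).ne

theorem mem_of_commute [Finite G] {x y : G} (h : Commute x y) (hx : x ≠ 1)
    (ho : ¬ (orderOf x).Prime ∨ orderOf y ≠ orderOf x) : y ∈ P.comp x := by
  by_contra hne
  obtain ⟨p, hp, e1, e2⟩ := P.orderOf_of_commute h hx hne
  rcases ho with ho | ho
  · exact ho (e1 ▸ hp)
  · exact ho (e2.trans e1.symm)

theorem mul_pow_mem {W : Subgroup G} {v z : G} (hz : z ∈ normalizer (W : Set G)) (hv : v ∈ W) :
    ∀ k : ℕ, (v * z) ^ k * (z ^ k)⁻¹ ∈ W := by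
  intro k
  induction k with
  | zero => simp
  | succ k ih =>
    have e : (v * z) ^ (k + 1) * (z ^ (k + 1))⁻¹ =
        ((v * z) ^ k * (z ^ k)⁻¹) * (z ^ k * v * (z ^ k)⁻¹) := by
      rw [pow_succ, pow_succ]; group
    rw [e]
    exact mul_mem ih ((Subgroup.mem_normalizer_iff.mp (pow_mem hz k) v).mp hv)

/-- The coset of an element normalising a component consists of elements with the same powers
in it, all trivial. -/
theorem mul_pow_eq_one {g v z : G} {k : ℕ} (hg : g ≠ 1) (hz : z ∈ normalizer (P.comp g : Set G))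
    (hz' : z ∉ P.comp g) (hk : z ^ k ∈ P.comp g) (hv : v ∈ P.comp g) : (v * z) ^ k = 1 := by
  refine P.pow_eq_one_of_not_mem hg (fun h => hz' ?_) ?_
  · simpa using mul_mem (inv_mem hv) h
  · simpa using mul_mem (mul_pow_mem hz hv k) hk

/-- A component with an element of prime order outside it in its normaliser is nilpotent. -/
theorem isNilpotent_comp [Finite G] {g z : G} {p : ℕ} (hp : p.Prime) (hg : g ≠ 1)
    (hz : z ∈ normalizer (P.comp g : Set G)) (hz' : z ∉ P.comp g) (hk : z ^ p ∈ P.comp g) :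
    Group.IsNilpotent (P.comp g) :=
  FGS80.Kegel.isNilpotent_of_splits hp _ G (P.comp g) z
    ⟨hz, P.pow_eq_one_of_not_mem hg hz' hk, fun _ hv => P.mul_pow_eq_one hg hz hz' hk hv⟩ rfl

theorem inverts {g u v : G} (hg : g ≠ 1) (hu : u ∈ normalizer (P.comp g : Set G))
    (hu' : u ∉ P.comp g) (h2 : u * u ∈ P.comp g) (hv : v ∈ P.comp g) :
    u * v * u⁻¹ = v⁻¹ := by
  have h1 := P.mul_pow_eq_one hg hu hu' (k := 2) (by rwa [pow_two]) hv
  have h0 := P.pow_eq_one_of_not_mem hg hu' (k := 2) (by rwa [pow_two])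
  rw [pow_two] at h1 h0
  have hu1 : u⁻¹ = u := inv_eq_of_mul_eq_one_left h0
  rw [hu1]
  exact eq_inv_of_mul_eq_one_right (by rw [← h1]; simp only [mul_assoc])

theorem exists_mem_norm_prime [Finite G] {g : G} (h : normalizer (P.comp g : Set G) ≠ P.comp g) :
    ∃ z r, Nat.Prime r ∧ z ∈ normalizer (P.comp g : Set G) ∧ z ∉ P.comp g ∧ z ^ r ∈ P.comp g := by
  obtain ⟨z, hz, hz'⟩ := SetLike.not_le_iff_exists.mp
    fun hle => h (le_antisymm hle le_normalizer)
  obtain ⟨k, r, hr, -, h1, h2⟩ := exists_prime_step (P.comp g) (orderOf z) z (orderOf_pos z) hz'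
    (by rw [pow_orderOf_eq_one]; exact one_mem _)
  exact ⟨z ^ k, r, hr, pow_mem hz k, h1, h2⟩

theorem isFrobeniusComplement_comp {g : G} (hg : g ≠ 1)
    (h : normalizer (P.comp g : Set G) = P.comp g) : Cfsg.IsFrobeniusComplement (P.comp g) := by
  refine ⟨fun e => hg (by simpa [e] using P.mem g hg), P.ne_top g hg, fun x hx => ?_⟩
  rw [Subgroup.eq_bot_iff_forall]
  rintro v ⟨hv, hv'⟩
  by_contra hv1
  obtain ⟨w, hw, hwv⟩ := Subgroup.mem_map.mp hv'
  replace hwv : x * w * x⁻¹ = v := hwv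
  have hw1 : w ≠ 1 := fun e => hv1 (by rw [← hwv, e]; simp)
  exact hx (h ▸ P.mem_norm_of_conj_mem hg hw hw1 (hwv ▸ hv))

theorem norm_ne_self (hG : ¬ Outcome G) {g : G} (hg : g ≠ 1) :
    normalizer (P.comp g : Set G) ≠ P.comp g := fun h =>
  hG (Or.inr ⟨_, P.isFrobeniusComplement_comp hg h⟩)

end Comp

end Cfsg.Agent.PartitionGroups45
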