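import Cfsg.Agent.PartitionGroups45.Embedded
import Cfsg.Agent.Lib.Coprime.Action

/-!
# No involution has its centraliser inside its component
-/

set_option autoImplicit false
set_option linter.unusedSectionVars false
set_option linter.style.haveILetI false

namespace Cfsg.Agent.PartitionGroups45

open Subgroup Cfsg.Agent.Normalisers5

variable {G : Type*} [Group G] [Finite G]

/-- No involution has its centraliser inside its component. -/
structure NoEmb (P : Comp G) : Prop where
  noOutcome : ¬ Outcome G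
  noSolv : NoSolv G
  outside : ∀ t : G, orderOf t = 2 → ¬ centralizer ({t} : Set G) ≤ P.comp t

namespace NoEmb

variable {P : Comp G} (h : NoEmb P)
include h

/-- The elements commuting with an involution `s` inside its component are inverted by the others. -/
theorem inverts {s g c : G} (hs : orderOf s = 2) (hgs : Commute g s) (hg : g ∉ P.comp s)
    (hcs : Commute c s) (hc : c ∈ P.comp s) : g * c * g⁻¹ = c⁻¹ := by
  have ho : ∀ g : G, Commute g s → g ∉ P.comp s → g * g = 1 := fun g hgs hg => by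
    obtain ⟨r, -, e1, e2⟩ := P.orderOf_of_commute hgs.symm (ne_one_of_two hs) hg
    exact mul_self_eq_one (by rw [e2, ← e1, hs])
  have h1 := ho g hgs hg
  have h2 := ho (g * c) (hgs.mul_left hcs) fun hm => hg (by
    have := mul_mem hm (inv_mem hc)
    rwa [mul_inv_cancel_right] at this)
  rw [show g⁻¹ = g from inv_eq_of_mul_eq_one_left h1]
  exact eq_inv_of_mul_eq_one_left (by rw [← h2]; simp only [mul_assoc])

/-- An involution commuting with two independent involutions outside its component inverts only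
elementary abelian components. -/
theorem sq_eq_one {s t t' c : G} (hs : orderOf s = 2) (ht : Commute t s) (ht' : Commute t' s)
    (h1 : t ∉ P.comp s) (h2 : t' ∉ P.comp s) (h3 : t * t' ∉ P.comp s) (hcs : Commute c s)
    (hc : c ∈ P.comp s) : c * c = 1 := by
  have e1 := h.inverts hs ht h1 hcs hc
  have e2 := h.inverts hs ht' h2 hcs hc
  have e3 := h.inverts hs (ht.mul_left ht') h3 hcs hc
  have e4 : t * t' * c * (t * t')⁻¹ = c := by
    calc t * t' * c * (t * t')⁻¹ = t * (t' * c * t'⁻¹) * t⁻¹ := by group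
      _ = (t * c * t⁻¹)⁻¹ := by rw [e2]; group
      _ = c := by rw [e1, inv_inv]
  rw [e4] at e3
  nth_rewrite 2 [e3]
  exact mul_inv_cancel c

/-- The structure of the component of an element of even order greater than two. -/
theorem dihedral {x : G} (hx : Even (orderOf x)) (hx2 : orderOf x ≠ 2) :
    ∃ u : G, orderOf u = 2 ∧ u ∉ P.comp x ∧ u ∈ normalizer (P.comp x : Set G) ∧
      (∀ v ∈ P.comp x, u * v * u⁻¹ = v⁻¹) ∧ Commute u (iota x) ∧
      (∀ a ∈ P.comp x, ∀ b ∈ P.comp x, Commute a b) ∧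
      ∀ g : G, Commute g (iota x) → g ∈ P.comp x ∨ g * u ∈ P.comp x := by
  set t := iota x with ht
  have ht2 : orderOf t = 2 := orderOf_iota hx
  have hx1 : x ≠ 1 := fun e => by rw [e, orderOf_one] at hx; exact Nat.not_even_one hx
  have htx : P.comp t = P.comp x := P.eq_of_pow (n := orderOf x / 2) (ne_one_of_two ht2)
  have htm : t ∈ P.comp x := htx ▸ P.mem t (ne_one_of_two ht2)
  obtain ⟨u, hu, hu'⟩ := SetLike.not_le_iff_exists.mp (h.outside t ht2)
  rw [htx] at hu'
  have hut : Commute u t := commute_of_mem_cent hu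
  have hout : ∀ g : G, Commute g t → g ∉ P.comp x →
      g ∈ normalizer (P.comp x : Set G) ∧ orderOf g = 2 := by
    intro g hgt hg
    obtain ⟨r, -, e1, e2⟩ := P.orderOf_of_commute hgt.symm (ne_one_of_two ht2) (htx ▸ hg)
    exact ⟨P.mem_norm_of_commute hx1 htm (ne_one_of_two ht2) hgt, by rw [e2, ← e1, ht2]⟩
  obtain ⟨huN, hu2⟩ := hout u hut hu'
  have hinv : ∀ g : G, g ∈ normalizer (P.comp x : Set G) → g ∉ P.comp x → orderOf g = 2 →
      ∀ v ∈ P.comp x, g * v * g⁻¹ = v⁻¹ := fun g hg hg' hg2 v hv =>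
    P.inverts hx1 hg hg' (by rw [mul_self_eq_one hg2]; exact one_mem _) hv
  have hi := hinv u huN hu' hu2
  refine ⟨u, hu2, hu', huN, hi, hut, fun a ha b hb => ?_, fun g hgt => ?_⟩
  · have h1 := hi (a * b) (mul_mem ha hb)
    rw [← conj_mul, hi a ha, hi b hb, ← mul_inv_rev] at h1
    exact (inv_injective h1).symm
  · refine or_iff_not_imp_left.mpr fun hg => ?_
    obtain ⟨hgN, hg2⟩ := hout g hgt hg
    have hc : Commute x (g * u) := by
      have : g * u * x * (g * u)⁻¹ = x := by
        calc g * u * x * (g * u)⁻¹ = g * (u * x * u⁻¹) * g⁻¹ := by group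
          _ = (g * x * g⁻¹)⁻¹ := by rw [hi x (P.mem x hx1)]; group
          _ = x := by rw [hinv g hgN hg hg2 x (P.mem x hx1), inv_inv]
      exact (mul_inv_eq_iff_eq_mul.mp this).symm
    exact P.mem_of_commute hc hx1
      (Or.inl fun hp => hx2 (((Nat.prime_dvd_prime_iff_eq Nat.prime_two hp).mp hx.two_dvd).symm))

theorem unique_involution {x s : G} (hx : Even (orderOf x)) (hx2 : orderOf x ≠ 2)
    (hs : s ∈ P.comp x) (hs2 : orderOf s = 2) : s = iota x := by
  by_contra hst
  haveI : Fact (Nat.Prime 2) := ⟨Nat.prime_two⟩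
  obtain ⟨u, hu2, hu', huN, hui, hut, hab, hcov⟩ := h.dihedral hx hx2
  set t := iota x with ht
  have ht2 : orderOf t = 2 := orderOf_iota hx
  have hx1 : x ≠ 1 := fun e => by rw [e, orderOf_one] at hx; exact Nat.not_even_one hx
  set W := P.comp x with hW
  set M := normalizer (W : Set G) with hM
  have htW : t ∈ W := pow_mem (P.mem x hx1) _
  have hxW : x ∈ W := P.mem x hx1
  have hxx : x * x ≠ 1 := fun e => hx2 (orderOf_two e hx1)
  -- an involution outside `W` inverting it
  have key : ∀ s₀ : G, orderOf s₀ = 2 → s₀ ∈ M → s₀ ∉ W → ∀ c : G, Commute c s₀ →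
      c ∈ P.comp s₀ → c * c = 1 := by
    intro s₀ h0 h0M h0W c hc hc'
    have hs₀1 := ne_one_of_two h0
    have hinv : ∀ v ∈ W, s₀ * v * s₀⁻¹ = v⁻¹ := fun v hv =>
      P.inverts hx1 h0M h0W (by rw [mul_self_eq_one h0]; exact one_mem _) hv
    have hcom : ∀ v ∈ W, orderOf v = 2 → Commute v s₀ := fun v hv hv2 => by
      have := hinv v hv
      rw [inv_eq_self' hv2] at this
      exact (mul_inv_eq_iff_eq_mul.mp this).symm
    have hnot : ∀ v ∈ W, v ≠ 1 → v ∉ P.comp s₀ := fun v hv hv1 hv' => h0W (by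
      have := P.mem s₀ hs₀1
      rwa [P.disjoint hs₀1 hx1 hv' hv hv1] at this)
    have hts : t * s ≠ 1 := fun e => hst (by
      rw [← eq_inv_of_mul_eq_one_right e |>.trans (inv_eq_self' ht2)])
    exact h.sq_eq_one h0 (hcom t htW ht2) (hcom s hs hs2) (hnot t htW (ne_one_of_two ht2))
      (hnot s hs (ne_one_of_two hs2)) (hnot _ (mul_mem htW hs) hts) hc hc'
  have hugu : ∀ g ∈ M, g * u * g⁻¹ * u ∈ W := by
    intro g hg
    have h1 : orderOf (g * u * g⁻¹) = 2 := by rw [orderOf_conj_eq, hu2]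
    have h2 : g * u * g⁻¹ ∈ M := mul_mem (mul_mem hg huN) (inv_mem hg)
    have h3 : g * u * g⁻¹ ∉ W := fun hh => hu' (by
      have := (Subgroup.mem_normalizer_iff.mp hg u).mpr hh
      exact this)
    have hh : Commute x (g * u * g⁻¹ * u) := by
      have : g * u * g⁻¹ * u * x * (g * u * g⁻¹ * u)⁻¹ = x := by
        calc g * u * g⁻¹ * u * x * (g * u * g⁻¹ * u)⁻¹
            = (g * u * g⁻¹) * (u * x * u⁻¹) * (g * u * g⁻¹)⁻¹ := by group
          _ = ((g * u * g⁻¹) * x * (g * u * g⁻¹)⁻¹)⁻¹ := by rw [hui x hxW]; group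
          _ = x := by
            rw [P.inverts hx1 h2 h3 (by rw [mul_self_eq_one h1]; exact one_mem _) hxW, inv_inv]
      exact (mul_inv_eq_iff_eq_mul.mp this).symm
    exact P.mem_of_commute hh hx1
      (Or.inl fun hp => hx2 (((Nat.prime_dvd_prime_iff_eq Nat.prime_two hp).mp hx.two_dvd).symm))
  have huu := mul_self_eq_one hu2
  have huconj : ∀ v ∈ W, u * v * u ∈ W := fun v hv => by
    have := hui v hv
    rw [inv_eq_self' hu2] at this
    rw [this]; exact inv_mem hv
  -- `M = W ∪ W u`
  have hMW : ∀ g ∈ M, g ∈ W ∨ g * u ∈ W := by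
    intro g hg
    by_contra hne
    push Not at hne
    obtain ⟨k, r, hr, -, hz, hzr⟩ := exists_prime_step (centralizer ({t} : Set G)) (orderOf g) g
      (orderOf_pos g)
      (fun hh => (hcov g (commute_of_mem_cent hh)).elim hne.1 hne.2)
      (by rw [pow_orderOf_eq_one]; exact one_mem _)
    set z := g ^ k
    have hzM : z ∈ M := pow_mem hg k
    have hzW : z ∉ W := fun hh => hz (mem_cent_of_commute (hab z hh t htW))
    have hz1 : z ≠ 1 := fun e => hzW (e ▸ one_mem _)
    -- elements of `W u` square into `W`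
    have hsq : ∀ e, e * u ∈ W → e * e ∈ W := by
      intro e he
      have e' : e * e = (e * u) * (u * (e * u) * u) := by
        simp only [mul_assoc]; rw [huu, mul_one, ← mul_assoc u u, huu, one_mul]
      rw [e']; exact mul_mem he (huconj _ he)
    have hz2W : z * z ∉ W := by
      intro h2
      have hzt := P.inverts hx1 hzM hzW h2 htW
      rw [inv_eq_self' ht2] at hzt
      exact hz (mem_cent_of_commute (mul_inv_eq_iff_eq_mul.mp hzt))
    by_cases hzr' : z ^ r ∈ W
    · have hr2 : r ≠ 2 := fun e => hz2W (by rw [← pow_two, ← e]; exact hzr')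
      have hz1r := P.pow_eq_one_of_not_mem hx1 hzW hzr'
      obtain ⟨j, hj⟩ := hr.odd_of_ne_two hr2
      set v := z * u with hv
      have hvM : v ∈ M := mul_mem hzM huN
      have hzzM : z * z ∈ M := mul_mem hzM hzM
      -- `v * v` and `z * z` agree modulo `W`
      have h1 : v * v * (z * z)⁻¹ ∈ W := by
        have h2 := hugu z⁻¹ (inv_mem hzM)
        rw [inv_inv] at h2
        have h3 := (Subgroup.mem_normalizer_iff.mp hzzM _).mp h2
        have e : v * v * (z * z)⁻¹ = z * z * (z⁻¹ * u * z * u) * (z * z)⁻¹ := by rw [hv]; group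
        rw [e]; exact h3
      have hpow : ∀ i : ℕ, (v * v) ^ i * ((z * z) ^ i)⁻¹ ∈ W := fun i => by
        have h2 := Comp.mul_pow_mem (W := W) (v := v * v * (z * z)⁻¹) hzzM h1 i
        rwa [inv_mul_cancel_right] at h2
      have hs₀u : v ^ r * u ∈ W := by
        have e : v ^ r * u = (v * v) ^ j * z * (u * u) := by
          rw [hj, pow_succ, pow_mul, pow_two, hv]; group
        have e2 : (z * z) ^ j * z = 1 := by rw [← pow_two, ← pow_mul, ← pow_succ, ← hj, hz1r]
        rw [e, huu, mul_one, ← inv_eq_of_mul_eq_one_right e2]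
        exact hpow j
      have hs₀W : v ^ r ∉ W := fun hh => hu' (by
        have := mul_mem (inv_mem hh) hs₀u
        rwa [inv_mul_cancel_left] at this)
      have hs₀2 : orderOf (v ^ r) = 2 := by
        refine orderOf_two ?_ fun e => hs₀W (e ▸ one_mem _)
        have h2 := P.pow_eq_one_of_not_mem hx1 hs₀W (k := 2) (by rw [pow_two]; exact hsq _ hs₀u)
        rwa [pow_two] at h2
      have hv1 : v ≠ 1 := fun e => hs₀W (by rw [e, one_pow]; exact one_mem _)
      have hmem : v * v ∈ P.comp (v ^ r) := by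
        rw [P.eq_of_pow (ne_one_of_two hs₀2)]
        exact mul_mem (P.mem v hv1) (P.mem v hv1)
      have h4 := key (v ^ r) hs₀2 (pow_mem hvM r) hs₀W (v * v)
        ((Commute.pow_self v r).symm.mul_left (Commute.pow_self v r).symm) hmem
      have h5 := hpow 2
      rw [pow_two (v * v), h4, one_mul, inv_mem_iff, ← pow_two z, ← pow_mul] at h5
      have h6 := P.pow_eq_one_of_not_mem hx1 hzW h5
      refine hz1 ?_
      have := pow_gcd_eq_one.mpr ⟨h6, hz1r⟩
      have hg4 : Nat.gcd (2 * 2) r = 1 :=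
        Nat.Coprime.mul_left ((Nat.coprime_primes Nat.prime_two hr).mpr (Ne.symm hr2))
          ((Nat.coprime_primes Nat.prime_two hr).mpr (Ne.symm hr2))
      rwa [hg4, pow_one] at this
    · set e := z ^ r with he
      have heu : e * u ∈ W := (hcov e (commute_of_mem_cent hzr)).resolve_left hzr'
      have he1 : e ≠ 1 := fun e' => hzr' (e' ▸ one_mem _)
      have he2 : orderOf e = 2 := by
        refine orderOf_two ?_ he1
        have h2 := P.pow_eq_one_of_not_mem hx1 hzr' (k := 2) (by rw [pow_two]; exact hsq e heu)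
        rwa [pow_two] at h2
      have hmem : z ∈ P.comp e := by rw [he, P.eq_of_pow he1]; exact P.mem z hz1
      have hce : Commute z e := (Commute.pow_self z r).symm
      by_cases hr2 : r = 2
      · have h4 := key e he2 (pow_mem hzM r) hzr' z hce hmem
        exact he1 (by rw [he, hr2, pow_two]; exact h4)
      · have h4 := key e he2 (pow_mem hzM r) hzr' (z * z) (hce.mul_left hce) (mul_mem hmem hmem)
        have h5 : (z * z) ^ r = 1 := by
          rw [(Commute.refl z).mul_pow]; exact mul_self_eq_one he2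
        obtain ⟨j, hj⟩ := hr.odd_of_ne_two hr2
        rw [hj, pow_succ, pow_mul, pow_two (z * z), h4, one_pow, one_mul] at h5
        exact hz2W (by rw [h5]; exact one_mem _)
  have hcu : ∀ v ∈ W, orderOf v = 2 → ∀ g ∈ M, Commute g v := by
    intro v hv hv2 g hg
    rcases hMW g hg with hh | hh
    · exact hab g hh v hv
    · have hvu : Commute u v := by
        have := hui v hv
        rw [inv_eq_self' hv2] at this
        exact mul_inv_eq_iff_eq_mul.mp this
      have := (hab _ hh v hv).mul_left hvu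
      rwa [mul_assoc, huu, mul_one] at this
  have htM : ∀ g ∈ M, Commute g t := hcu t htW ht2
  have hsM : ∀ g ∈ M, Commute g s := hcu s hs hs2
  obtain ⟨R⟩ : Nonempty (Sylow 2 M) := inferInstance
  have hcen : ∀ v : G, (hv : v ∈ M) → orderOf v = 2 → (∀ g ∈ M, Commute g v) →
      (⟨v, hv⟩ : M) ∈ (R : Subgroup M) := fun v hv hv2 hc =>
    mem_sylow_of_commute R (s := ⟨v, hv⟩) (k := 1) (by rw [Subgroup.orderOf_mk, hv2, pow_one])
      fun p _ => Subtype.ext (hc p p.2).eq
  have htR := hcen t (le_normalizer htW) ht2 htM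
  have hsR := hcen s (le_normalizer hs) hs2 hsM
  set R' := (R : Subgroup M).map M.subtype with hR'
  have htR' : t ∈ R' := ⟨_, htR, rfl⟩
  have hsR' : s ∈ R' := ⟨_, hsR, rfl⟩
  have hR'M : R' ≤ M := map_subtype_le _
  obtain ⟨T, hT⟩ := (R.2.map M.subtype : IsPGroup 2 R').exists_le_sylow
  have hTR : (T : Subgroup G) ≤ R' := by
    by_contra hne
    have hne' : R'.subgroupOf T ≠ ⊤ := fun e => hne (subgroupOf_eq_top.mp e)
    obtain ⟨⟨g, hgT⟩, hg, hgR⟩ := SetLike.exists_of_lt (PGroup.lt_normalizer T.2 hne')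
    have hgN : ∀ v, v ∈ R' → g * v * g⁻¹ ∈ R' := fun v hv =>
      (Subgroup.mem_normalizer_iff.mp hg ⟨v, hT hv⟩).mp hv
    have hgM : g ∈ M := by
      by_contra hgM
      have hcase : ∀ v : G, v ∈ W → v ≠ 1 → v ∈ R' → g * v * g⁻¹ * u ∈ W := fun v hv hv1 hvR => by
        rcases hMW _ (hR'M (hgN v hvR)) with hh | hh
        · exact absurd (P.mem_norm_of_conj_mem hx1 hv hv1 hh) hgM
        · exact hh
      have e1 := hcase t htW (ne_one_of_two ht2) htR'
      have e2 := hcase s hs (ne_one_of_two hs2) hsR'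
      have hts : t * s ≠ 1 := fun e => hst (by
        rw [← eq_inv_of_mul_eq_one_right e |>.trans (inv_eq_self' ht2)])
      refine hgM (P.mem_norm_of_conj_mem hx1 (mul_mem htW hs) hts ?_)
      have e : g * (t * s) * g⁻¹ = (g * t * g⁻¹ * u) * (u * (g * s * g⁻¹ * u) * u⁻¹) := by
        calc g * (t * s) * g⁻¹ = (g * t * g⁻¹) * (u * u) * (g * s * g⁻¹) := by rw [huu]; group
          _ = _ := by group
      rw [e, hui _ e2]
      exact mul_mem e1 (inv_mem e2)
    refine hgR ?_
    have hle : (R : Subgroup M) ≤ (T : Subgroup G).subgroupOf M := fun y hy =>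
      hT ⟨y, hy, rfl⟩
    have heq := R.3 (T.2.comap_subtype : IsPGroup 2 ((T : Subgroup G).subgroupOf M)) hle
    exact ⟨⟨g, hgM⟩, heq ▸ (show (⟨g, hgM⟩ : M) ∈ (T : Subgroup G).subgroupOf M from hgT), rfl⟩
  refine isolated_false h.noSolv T ht2 (hT htR') fun g hg => ?_
  have hm : g * t * g⁻¹ ∈ M := hR'M (hTR hg)
  by_cases hgW : g * t * g⁻¹ ∈ W
  · have hgM : g ∈ M := P.mem_norm_of_conj_mem hx1 htW (ne_one_of_two ht2) hgW
    rw [(htM g hgM).eq, mul_inv_cancel_right]
  · exfalso
    have h02 : orderOf (g * t * g⁻¹) = 2 := by rw [orderOf_conj_eq, ht2]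
    have hxc : Commute (g * x * g⁻¹) (g * t * g⁻¹) :=
      (Commute.conj_iff g).mpr (iota_commute (Commute.refl x)).symm
    have hxm : g * x * g⁻¹ ∈ P.comp (g * t * g⁻¹) := by
      have e : P.comp t = W := P.eq_of_mem x t hx1 htW (ne_one_of_two ht2)
      exact P.conj_mem g t x (e ▸ hxW)
    have := key _ h02 hm hgW _ hxc hxm
    exact hxx (by simpa using this)

theorem hyp : Hyp G := by
  intro X hXc hXe Y hYX hY
  obtain ⟨x, rfl⟩ := (Subgroup.isCyclic_iff_exists_zpowers_eq_top X).mp hXc
  rw [Nat.card_zpowers] at hXe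
  refine le_antisymm ?_ ?_
  · refine Coprime.le_normalizer_of_conj_mem fun g hg v hv => ?_
    obtain ⟨m, hm⟩ := mem_zpowers_iff.mp (conj_mem_zpowers hg)
    obtain ⟨n, hn⟩ := mem_zpowers_iff.mp (hYX hv)
    have e : g * v * g⁻¹ = v ^ m := by
      rw [← hn, ← conj_zpow, ← hm, ← zpow_mul, mul_comm, zpow_mul]
    rw [e]; exact zpow_mem hv m
  · by_cases hx2 : orderOf x = 2
    · have : Y = zpowers x := Subgroup.eq_of_le_of_card_ge hYX (by
        rw [Nat.card_zpowers, hx2]
        exact (Subgroup.one_lt_card_iff_ne_bot Y).mpr hY)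
      rw [this]
    intro g hg
    have hx1 : x ≠ 1 := fun e => by rw [e, orderOf_one] at hXe; exact Nat.not_even_one hXe
    obtain ⟨⟨y, hy⟩, hy1⟩ := Subgroup.ne_bot_iff_exists_ne_one.1 hY
    have hy1' : y ≠ 1 := fun e => hy1 (Subtype.ext e)
    have hYW : ∀ v ∈ Y, v ∈ P.comp x := fun v hv =>
      (zpowers_le.mpr (P.mem x hx1)) (hYX hv)
    have hgN : g ∈ normalizer (P.comp x : Set G) :=
      P.mem_norm_of_conj_mem hx1 (hYW y hy) hy1'
        (hYW _ ((Subgroup.mem_normalizer_iff.mp hg y).mp hy))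
    obtain ⟨u, -, -, -, hui, -, hab, hcov⟩ := h.dihedral hXe hx2
    have ht2 : orderOf (iota x) = 2 := orderOf_iota hXe
    have htW : iota x ∈ P.comp x := pow_mem (P.mem x hx1) _
    have hgt : Commute g (iota x) := by
      have := h.unique_involution hXe hx2 ((Subgroup.mem_normalizer_iff.mp hgN _).mp htW)
        (by rw [orderOf_conj_eq, ht2])
      exact mul_inv_eq_iff_eq_mul.mp this
    have hgx : g * x * g⁻¹ = x ∨ g * x * g⁻¹ = x⁻¹ := by
      rcases hcov g hgt with hh | hh
      · left; rw [(hab g hh x (P.mem x hx1)).eq, mul_inv_cancel_right]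
      · right
        calc g * x * g⁻¹ = (g * u) * (u⁻¹ * x * u) * (g * u)⁻¹ := by group
          _ = (g * u) * x⁻¹ * (g * u)⁻¹ := by
            have := hui x⁻¹ (inv_mem (P.mem x hx1))
            rw [inv_inv] at this
            conv_lhs => rw [show u⁻¹ * x * u = u⁻¹ * (u * x⁻¹ * u⁻¹) * u by rw [this]]
            group
          _ = x⁻¹ := by rw [(hab _ hh _ (inv_mem (P.mem x hx1))).eq, mul_inv_cancel_right]
    refine Subgroup.mem_normalizer_iff.mpr fun v => ⟨fun hv => ?_, fun hv => ?_⟩
    · obtain ⟨n, rfl⟩ := mem_zpowers_iff.mp hv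
      rw [← conj_zpow]
      rcases hgx with e | e <;> rw [e]
      · exact zpow_mem (mem_zpowers x) n
      · exact zpow_mem (inv_mem (mem_zpowers x)) n
    · obtain ⟨n, hn⟩ := mem_zpowers_iff.mp hv
      rcases hgx with e | e
      · refine mem_zpowers_iff.mpr ⟨n, ?_⟩
        have hc : g * x ^ n * g⁻¹ = g * v * g⁻¹ := by rw [← conj_zpow, e, hn]
        exact mul_left_cancel (mul_right_cancel hc)
      · refine mem_zpowers_iff.mpr ⟨-n, ?_⟩
        have hc : g * x ^ (-n) * g⁻¹ = g * v * g⁻¹ := by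
          rw [← conj_zpow, e, inv_zpow, zpow_neg, inv_inv, hn]
        exact mul_left_cancel (mul_right_cancel hc)

end NoEmb

end Cfsg.Agent.PartitionGroups45
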