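import Cfsg.Agent.PartitionGroups45.Pairs

/-!
# Every pair of points is interchanged by as many involutions as fix a point
-/

set_option autoImplicit false
set_option linter.unusedSectionVars false
set_option linter.style.haveILetI false

namespace Cfsg.Agent.PartitionGroups45

open Subgroup MulAction Cfsg.Agent.Normalisers5

variable {G : Type*} [Group G] [Finite G]

/-- The number of cosets of the component in its normaliser. -/
noncomputable abbrev kk (P : Comp G) (t : G) : ℕ :=
  ((P.comp t).subgroupOf (normalizer (P.comp t : Set G))).index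

theorem swappers_mul_mem (P : Comp G) (t : G) {a b : Pts P t} {v v₀ : G}
    (hv : v ∈ swappers P t a b) (hv₀ : v₀ ∈ swappers P t a b) :
    v * v₀ ∈ stabilizer G a ⊓ stabilizer G b := by
  constructor
  · show (v * v₀) • a = a; rw [mul_smul, hv₀.2.1, hv.2.2]
  · show (v * v₀) • b = b; rw [mul_smul, hv₀.2.2, hv.2.1]

theorem conj_mem_swappers (P : Comp G) (t : G) {a b : Pts P t} (g : G) {v : G}
    (hv : v ∈ swappers P t a b) : g * v * g⁻¹ ∈ swappers P t (g • a) (g • b) := by
  refine ⟨by rw [orderOf_conj_eq, hv.1], ?_, ?_⟩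
  · rw [mul_smul, inv_smul_smul, mul_smul, hv.2.1]
  · rw [mul_smul, inv_smul_smul, mul_smul, hv.2.2]

theorem ncard_swappers_smul (P : Comp G) (t : G) (a b : Pts P t) (g : G) :
    (swappers P t (g • a) (g • b)).ncard = (swappers P t a b).ncard := by
  symm
  refine Set.ncard_congr (fun v _ => g * v * g⁻¹) (fun v hv => conj_mem_swappers P t g hv)
    (fun v w _ _ e => by simpa using e) fun v hv => ?_
  exact ⟨g⁻¹ * v * g, by simpa using conj_mem_swappers P t g⁻¹ hv, by group⟩

namespace Emb

variable {P : Comp G} {t : G} (h : Emb P t)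
include h

theorem swappers_le_base {b : Pts P t} (hb : b ≠ base P t) :
    (swappers P t (base P t) b).ncard ≤ kk P t := by
  rcases (swappers P t (base P t) b).eq_empty_or_nonempty with e | hne
  · rw [e, Set.ncard_empty]; exact Nat.zero_le _
  obtain ⟨v₀, hv₀⟩ := hne
  refine le_trans ?_ (h.card_two_le hb ⟨v₀, hv₀⟩)
  rw [← Nat.card_coe_set_eq]
  exact Nat.card_le_card_of_injective
    (fun v => (⟨v.1 * v₀, swappers_mul_mem P t v.2 hv₀⟩ :
      ↥(stabilizer G (base P t) ⊓ stabilizer G b)))
    fun v w e => Subtype.ext (mul_right_cancel (congrArg Subtype.val e))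

theorem swappers_le {a b : Pts P t} (hab : a ≠ b) : (swappers P t a b).ncard ≤ kk P t := by
  obtain ⟨g, rfl⟩ := QuotientGroup.mk_surjective a
  have e : ∀ x : Pts P t, x = g • (g⁻¹ • x) := fun x => (smul_inv_smul g x).symm
  have hg : g⁻¹ • (g : Pts P t) = base P t := by
    rw [MulAction.Quotient.smul_coe, smul_eq_mul, inv_mul_cancel]
  rw [e (g : Pts P t), e b, ncard_swappers_smul, hg]
  refine h.swappers_le_base fun e' => hab ?_
  rw [← hg] at e'
  exact (smul_left_cancel _ e').symm

theorem ncard_fixing (a : Pts P t) : {v : G | orderOf v = 2 ∧ v • a = a}.ncard = kk P t := by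
  obtain ⟨c, rfl⟩ := QuotientGroup.mk_surjective a
  rw [kk, ← h.card_involutions, ← Nat.card_coe_set_eq]
  refine Nat.card_congr
    { toFun := fun v => ⟨c⁻¹ * v.1 * c, (h.fixes_iff v.2.1).mp v.2.2, by
        simpa using (orderOf_conj_eq c⁻¹ v.1).trans v.2.1⟩
      invFun := fun x => ⟨c * x.1 * c⁻¹, by rw [orderOf_conj_eq, x.2.2],
        (h.fixes_iff (by rw [orderOf_conj_eq, x.2.2])).mpr (by simpa [mul_assoc] using x.2.1)⟩
      left_inv := fun v => Subtype.ext (show c * (c⁻¹ * v.1 * c) * c⁻¹ = v.1 by group)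
      right_inv := fun x => Subtype.ext (show c⁻¹ * (c * x.1 * c⁻¹) * c = x.1 by group) }

theorem swappers_full {a b : Pts P t} (hab : a ≠ b) : (swappers P t a b).ncard = kk P t := by
  classical
  haveI := Fintype.ofFinite G
  haveI := Fintype.ofFinite (Pts P t)
  let I : Finset G := Finset.univ.filter fun v => orderOf v = 2
  have hI : ∀ {v}, v ∈ I ↔ orderOf v = 2 := fun {v} => by simp [I]
  let O : Finset (Pts P t × Pts P t) := (Finset.univ : Finset (Pts P t)).offDiag
  let n := Fintype.card (Pts P t)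
  have hs : ∀ p : Pts P t × Pts P t,
      (I.filter fun v => v • p.1 = p.2 ∧ v • p.2 = p.1).card = (swappers P t p.1 p.2).ncard := by
    intro p
    rw [← Set.ncard_coe_finset]
    congr 1
    ext v
    simp [I, swappers]
  have hf : ∀ a : Pts P t, (I.filter fun v => v • a = a).card = kk P t := by
    intro a
    rw [← h.ncard_fixing a, ← Set.ncard_coe_finset]
    congr 1
    ext v
    simp [I]
  have hone : ∀ v ∈ I, (Finset.univ.filter fun a : Pts P t => v • a = a).card = 1 := by
    intro v hv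
    obtain ⟨a, ha⟩ := h.exists_fixed (hI.mp hv)
    rw [Finset.card_eq_one]
    exact ⟨a, Finset.eq_singleton_iff_unique_mem.mpr
      ⟨by simp [ha], fun c hc => h.fixed_unique (hI.mp hv) (by simpa using hc) ha⟩⟩
  have hcardI : I.card = n * kk P t := by
    have := Finset.sum_card_bipartiteAbove_eq_sum_card_bipartiteBelow
      (s := I) (t := (Finset.univ : Finset (Pts P t))) (fun v a => v • a = a)
    simp only [Finset.bipartiteAbove, Finset.bipartiteBelow] at this
    rw [Finset.sum_congr rfl hone, Finset.sum_congr rfl (fun a _ => hf a)] at this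
    simpa [n] using this
  have hswap : ∀ v ∈ I, (O.filter fun p => v • p.1 = p.2 ∧ v • p.2 = p.1).card = n - 1 := by
    intro v hv
    obtain ⟨a, ha⟩ := h.exists_fixed (hI.mp hv)
    have hvv : ∀ c : Pts P t, v • v • c = c := fun c => by
      rw [← mul_smul, mul_self_eq_one (hI.mp hv), one_smul]
    have : (O.filter fun p => v • p.1 = p.2 ∧ v • p.2 = p.1) =
        ((Finset.univ : Finset (Pts P t)).erase a).image fun c => (c, v • c) := by
      ext ⟨c, d⟩
      simp only [O, Finset.mem_filter, Finset.mem_offDiag, Finset.mem_univ, true_and,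
        Finset.mem_image, Finset.mem_erase, and_true, Prod.mk.injEq]
      constructor
      · rintro ⟨hne, h1, -⟩
        exact ⟨c, fun e => hne (by rw [← h1, e, ha]), rfl, h1⟩
      · rintro ⟨c', hc', rfl, rfl⟩
        exact ⟨fun e => hc' (h.fixed_unique (hI.mp hv) e.symm ha), rfl, hvv c'⟩
    rw [this, Finset.card_image_of_injective _ (fun c d e => congrArg Prod.fst e),
      Finset.card_erase_of_mem (Finset.mem_univ a), Finset.card_univ]
  have hsum : ∑ p ∈ O, (swappers P t p.1 p.2).ncard = ∑ _p ∈ O, kk P t := by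
    have := Finset.sum_card_bipartiteAbove_eq_sum_card_bipartiteBelow
      (s := I) (t := O) (fun v p => v • p.1 = p.2 ∧ v • p.2 = p.1)
    simp only [Finset.bipartiteAbove, Finset.bipartiteBelow] at this
    rw [Finset.sum_congr rfl hswap, Finset.sum_congr rfl (fun p _ => hs p)] at this
    rw [← this, Finset.sum_const, Finset.sum_const, Finset.offDiag_card, Finset.card_univ, hcardI,
      smul_eq_mul, smul_eq_mul]
    rw [show n * n - n = n * (n - 1) by rw [Nat.mul_sub, mul_one]]
    ring
  exact (Finset.sum_eq_sum_iff_of_le fun p hp =>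
    h.swappers_le (by simpa [O] using hp)).mp hsum (a, b) (by simp [O, hab])

theorem exists_swapper {a b : Pts P t} (hab : a ≠ b) : ∃ v, v ∈ swappers P t a b := by
  refine Set.nonempty_of_ncard_ne_zero ?_
  rw [h.swappers_full hab]
  exact (zero_lt_one.trans h.one_lt_index).ne'

theorem card_two {b : Pts P t} (hb : b ≠ base P t) :
    Nat.card ↥(stabilizer G (base P t) ⊓ stabilizer G b) = kk P t := by
  obtain ⟨v₀, hv₀⟩ := h.exists_swapper hb.symm
  refine le_antisymm (h.card_two_le hb ⟨v₀, hv₀⟩) ?_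
  rw [← h.swappers_full hb.symm, ← Nat.card_coe_set_eq]
  exact Nat.card_le_card_of_injective
    (fun v => (⟨v.1 * v₀, swappers_mul_mem P t v.2 hv₀⟩ :
      ↥(stabilizer G (base P t) ⊓ stabilizer G b)))
    fun v w e => Subtype.ext (mul_right_cancel (congrArg Subtype.val e))

theorem inverts_base {b : Pts P t} (hb : b ≠ base P t) {v₀ d : G}
    (hv₀ : v₀ ∈ swappers P t (base P t) b) (ho : d • base P t = base P t) (hdb : d • b = b) :
    v₀ * d * v₀⁻¹ = d⁻¹ ∧ ∃ v ∈ swappers P t (base P t) b, d = v * v₀ := by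
  let f : swappers P t (base P t) b → ↥(stabilizer G (base P t) ⊓ stabilizer G b) :=
    fun v => ⟨v.1 * v₀, swappers_mul_mem P t v.2 hv₀⟩
  have hbij : Function.Bijective f := (Nat.bijective_iff_injective_and_card f).mpr
    ⟨fun v w e => Subtype.ext (mul_right_cancel (congrArg Subtype.val e)),
      by rw [h.card_two hb, Nat.card_coe_set_eq, h.swappers_full hb.symm]⟩
  obtain ⟨⟨v, hv⟩, e⟩ := hbij.2 ⟨d, ho, hdb⟩
  have e' : v * v₀ = d := congrArg Subtype.val e
  refine ⟨?_, v, hv, e'.symm⟩
  rw [← e', mul_inv_rev, inv_eq_self' hv.1, mul_assoc, mul_assoc,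
    mul_inv_cancel, mul_one, inv_eq_self' hv₀.1]

theorem inverts_two {a b : Pts P t} (hab : a ≠ b) {v d : G} (hv : v ∈ swappers P t a b)
    (hda : d • a = a) (hdb : d • b = b) : v * d * v⁻¹ = d⁻¹ := by
  obtain ⟨g, rfl⟩ := QuotientGroup.mk_surjective a
  have hg : g⁻¹ • (g : Pts P t) = base P t := by
    rw [MulAction.Quotient.smul_coe, smul_eq_mul, inv_mul_cancel]
  have h1 := conj_mem_swappers P t g⁻¹ hv
  rw [hg] at h1
  have hb : g⁻¹ • b ≠ base P t := fun e => hab (smul_left_cancel g⁻¹ (hg.trans e.symm))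
  have hfix : ∀ c : Pts P t, d • c = c → (g⁻¹ * d * g⁻¹⁻¹) • (g⁻¹ • c) = g⁻¹ • c := fun c hc => by
    rw [mul_smul, mul_smul, inv_smul_smul, hc]
  have h2 := (h.inverts_base hb h1 (hg ▸ hfix _ hda) (hfix _ hdb)).1
  calc v * d * v⁻¹ = g * ((g⁻¹ * v * g⁻¹⁻¹) * (g⁻¹ * d * g⁻¹⁻¹) * (g⁻¹ * v * g⁻¹⁻¹)⁻¹) * g⁻¹ := by
        group
    _ = g * (g⁻¹ * d * g⁻¹⁻¹)⁻¹ * g⁻¹ := by rw [h2]
    _ = d⁻¹ := by group

end Emb

end Cfsg.Agent.PartitionGroups45
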