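import Cfsg.Agent.PartitionGroups45.Count
import Cfsg.Agent.CIT.TISimple
import Cfsg.Agent.S0346

/-!
# The case of an involution with centraliser inside its component: `PSL(2, 2ⁿ)` or a Suzuki group
-/

set_option autoImplicit false
set_option linter.unusedSectionVars false
set_option linter.style.haveILetI false

namespace Cfsg.Agent.PartitionGroups45

open Subgroup MulAction Cfsg.Agent.Normalisers5

variable {G : Type*} [Group G] [Finite G]

namespace Emb

variable {P : Comp G} {t : G} (h : Emb P t)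
include h

theorem conj_mem_comp {g w : G} (hg : g ∈ normalizer (P.comp t : Set G)) (hw : w ∈ P.comp t) :
    g * w * g⁻¹ ∈ P.comp t := (Subgroup.mem_normalizer_iff.mp hg w).mp hw

theorem exists_ne_base : ∃ b : Pts P t, b ≠ base P t := by
  obtain ⟨v, -, hv⟩ := h.exists_outside
  exact ⟨v • base P t, fun e => hv (h.smul_base.mp e)⟩

theorem comp_inf_two {b : Pts P t} (hb : b ≠ base P t) {x : G} (hxb : x • b = b)
    (hx : x ∈ P.comp t) : x = 1 := by
  obtain ⟨v, hv⟩ := h.exists_swapper hb.symm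
  exact h.two_inf_comp hb hv hxb hx

/-- The normaliser of the component is the product of it and a two-point stabiliser. -/
theorem exists_mul {b : Pts P t} (hb : b ≠ base P t) {m : G}
    (hm : m ∈ normalizer (P.comp t : Set G)) :
    ∃ w ∈ P.comp t, ∃ d : G, d • base P t = base P t ∧ d • b = b ∧ m = w * d := by
  set M := normalizer (P.comp t : Set G)
  set D := stabilizer G (base P t) ⊓ stabilizer G b
  let f : P.comp t × D → M := fun x => ⟨x.1 * x.2, mul_mem (le_normalizer x.1.2)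
    (h.smul_base.mp x.2.2.1)⟩
  have hinj : Function.Injective f := by
    intro x y e
    have e' : (x.1 : G) * x.2 = y.1 * y.2 := congrArg Subtype.val e
    have h1 : (y.1 : G)⁻¹ * x.1 = (y.2 : G) * (x.2 : G)⁻¹ := by
      rw [inv_mul_eq_iff_eq_mul, ← mul_assoc, eq_mul_inv_iff_mul_eq, e']
    have h2 : (y.1 : G)⁻¹ * x.1 = 1 := h.comp_inf_two hb
      (by rw [h1]; exact ((D.mul_mem y.2.2 (D.inv_mem x.2.2))).2) (mul_mem (inv_mem y.1.2) x.1.2)
    have h3 : x.1 = y.1 := Subtype.ext (inv_mul_eq_one.mp h2).symm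
    refine Prod.ext h3 (Subtype.ext ?_)
    rw [h3] at e'
    exact mul_left_cancel e'
  have hbij : Function.Bijective f := (Nat.bijective_iff_injective_and_card f).mpr ⟨hinj, by
    rw [Nat.card_prod, h.card_two hb, ← Subgroup.card_mul_index ((P.comp t).subgroupOf M),
      Nat.card_congr (Subgroup.subgroupOfEquivOfLe (le_normalizer (H := P.comp t))).toEquiv]⟩
  obtain ⟨⟨⟨w, hw⟩, ⟨d, hd1, hd2⟩⟩, e⟩ := hbij.2 ⟨m, hm⟩
  exact ⟨w, hw, d, hd1, hd2, (congrArg Subtype.val e).symm⟩

theorem three_fixed_base {a c : Pts P t} {d : G} (ha : a ≠ base P t) (hc : c ≠ base P t)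
    (hac : a ≠ c) (h0 : d • base P t = base P t) (h1 : d • a = a) (h2 : d • c = c) : d = 1 := by
  obtain ⟨v, hv⟩ := h.exists_swapper ha
  obtain ⟨v₃, hv₃⟩ := h.exists_swapper hc.symm
  obtain ⟨v₄, hv₄⟩ := h.exists_swapper hac.symm
  have i1 := h.inverts_two ha hv h1 h0
  have i3 := h.inverts_two hc.symm hv₃ h0 h2
  have i4 := h.inverts_two hac.symm hv₄ h2 h1
  have hh : (v * v₄ * v₃) • base P t = base P t := by
    rw [mul_smul, mul_smul, hv₃.2.1, hv₄.2.1, hv.2.1]
  have hinv : v * v₄ * v₃ * d * (v * v₄ * v₃)⁻¹ = d⁻¹ := by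
    calc v * v₄ * v₃ * d * (v * v₄ * v₃)⁻¹ = v * (v₄ * (v₃ * d * v₃⁻¹) * v₄⁻¹) * v⁻¹ := by group
      _ = v * ((v₄ * d * v₄⁻¹)⁻¹) * v⁻¹ := by rw [i3]; group
      _ = v * d * v⁻¹ := by rw [i4, inv_inv]
      _ = d⁻¹ := i1
  obtain ⟨w, hw, d', hd'0, hd'a, e⟩ := h.exists_mul ha (h.smul_base.mp hh)
  obtain ⟨v₀, hv₀⟩ := h.exists_swapper ha.symm
  have hcomm : Commute d' d := by
    have hdd' : (d' * d) • a = a ∧ (d' * d) • base P t = base P t :=
      ⟨by rw [mul_smul, h1, hd'a], by rw [mul_smul, h0, hd'0]⟩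
    have j1 := h.inverts_two ha.symm hv₀ hdd'.2 hdd'.1
    have j2 := h.inverts_two ha.symm hv₀ hd'0 hd'a
    have j3 := h.inverts_two ha.symm hv₀ h0 h1
    rw [← conj_mul, j2, j3, mul_inv_rev] at j1
    show d' * d = d * d'
    have := congrArg (fun x : G => x⁻¹) j1
    simpa [mul_inv_rev] using this.symm
  rw [e] at hinv
  have hwd : w * d * w⁻¹ = d⁻¹ := by
    rw [← hinv]
    calc w * d * w⁻¹ = w * (d' * d * d'⁻¹) * w⁻¹ := by rw [hcomm.eq, mul_inv_cancel_right]
      _ = _ := by group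
  have hm : w * d * w⁻¹ * d⁻¹ ∈ P.comp t := by
    have := mul_mem hw (h.conj_mem_comp (h.smul_base.mp h0) (inv_mem hw))
    simpa [mul_assoc] using this
  have h1' : w * d * w⁻¹ * d⁻¹ = 1 := h.comp_inf_two ha (by
    rw [hwd, mul_smul, inv_smul_eq_iff.mpr h1.symm, inv_smul_eq_iff.mpr h1.symm]) hm
  have hsq : d * d = 1 := by
    rw [hwd, ← mul_inv_rev, inv_eq_one] at h1'
    exact h1'
  by_contra hd1
  have := h.two_odd ha.symm h0 h1
  rw [orderOf_two hsq hd1] at this
  exact Nat.not_even_iff_odd.mpr this even_two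

theorem three_fixed {a b c : Pts P t} {d : G} (hab : a ≠ b) (hbc : b ≠ c) (hac : a ≠ c)
    (h1 : d • a = a) (h2 : d • b = b) (h3 : d • c = c) : d = 1 := by
  obtain ⟨g, rfl⟩ := QuotientGroup.mk_surjective a
  have hg : g⁻¹ • (g : Pts P t) = base P t := by
    rw [MulAction.Quotient.smul_coe, smul_eq_mul, inv_mul_cancel]
  have hfix : ∀ x : Pts P t, d • x = x → (g⁻¹ * d * g) • (g⁻¹ • x) = g⁻¹ • x := fun x hx => by
    rw [mul_smul, mul_smul, smul_inv_smul, hx]
  have := h.three_fixed_base (a := g⁻¹ • b) (c := g⁻¹ • c) (d := g⁻¹ * d * g)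
    (fun e => hab (smul_left_cancel g⁻¹ (hg.trans e.symm)))
    (fun e => hac (smul_left_cancel g⁻¹ (hg.trans e.symm)))
    (fun e => hbc (smul_left_cancel g⁻¹ e)) (hg ▸ hfix _ h1) (hfix _ h2) (hfix _ h3)
  calc d = g * (g⁻¹ * d * g) * g⁻¹ := by group
    _ = 1 := by rw [this, mul_one, mul_inv_cancel]

/-- The two-point stabiliser acts without fixed points on the component. -/
theorem fpf {b : Pts P t} (hb : b ≠ base P t) {d w : G} (h0 : d • base P t = base P t)
    (h1 : d • b = b) (hd : d ≠ 1) (hw : w ∈ P.comp t) (hc : Commute d w) : w = 1 := by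
  have hwo : w • base P t = base P t := h.smul_base.mpr (le_normalizer hw)
  refine h.comp_inf_two hb ?_ hw
  by_contra hne
  refine hd (h.three_fixed (a := base P t) (b := b) (c := w • b) hb.symm
    (fun e => hne e.symm) (fun e => hb ?_) h0 h1 ?_)
  · exact (smul_left_cancel w (hwo.trans e)).symm
  · rw [← mul_smul, hc.eq, mul_smul, h1]

theorem exists_two_ne_one {b : Pts P t} (hb : b ≠ base P t) :
    ∃ d : G, d ≠ 1 ∧ d • base P t = base P t ∧ d • b = b := by
  have h1 : 1 < Nat.card ↥(stabilizer G (base P t) ⊓ stabilizer G b) := by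
    rw [h.card_two hb]; exact h.one_lt_index
  obtain ⟨⟨d, hd⟩, hd1⟩ := Subgroup.ne_bot_iff_exists_ne_one.1
    ((Subgroup.one_lt_card_iff_ne_bot _).mp h1)
  exact ⟨d, fun e => hd1 (Subtype.ext e), hd.1, hd.2⟩

/-- The component is transitive on the points different from the base point. -/
theorem transitive {b c : Pts P t} (hb : b ≠ base P t) (hc : c ≠ base P t) :
    ∃ w ∈ P.comp t, w • b = c := by
  obtain ⟨d, hd1, hd0, hdb⟩ := h.exists_two_ne_one hb
  have hdM := h.smul_base.mp hd0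
  obtain ⟨w₁, hw₁, dc, -, hdc, e⟩ := h.exists_mul hc hdM
  let f : P.comp t → P.comp t :=
    fun w => ⟨(w : G)⁻¹ * (d * w * d⁻¹), mul_mem (inv_mem w.2) (h.conj_mem_comp hdM w.2)⟩
  have hinj : Function.Injective f := by
    intro x y e'
    have e1 : (x : G)⁻¹ * (d * x * d⁻¹) = (y : G)⁻¹ * (d * y * d⁻¹) := congrArg Subtype.val e'
    have hfix : d * ((y : G) * (x : G)⁻¹) * d⁻¹ = y * (x : G)⁻¹ := by
      calc d * ((y : G) * (x : G)⁻¹) * d⁻¹ = y * ((y : G)⁻¹ * (d * y * d⁻¹)) * (d * x * d⁻¹)⁻¹ := by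
            group
        _ = _ := by rw [← e1]; group
    exact Subtype.ext (mul_inv_eq_one.mp (h.fpf hb hd0 hdb hd1 (mul_mem y.2 (inv_mem x.2))
      (mul_inv_eq_iff_eq_mul.mp hfix))).symm
  obtain ⟨⟨w, hw⟩, hwe⟩ := (Finite.injective_iff_surjective.mp hinj) ⟨w₁⁻¹, inv_mem hw₁⟩
  have hwe' : w⁻¹ * (d * w * d⁻¹) = w₁⁻¹ := congrArg Subtype.val hwe
  have hX : d * w * d⁻¹ * w₁ = w := by
    rw [inv_mul_eq_iff_eq_mul.mp hwe', inv_mul_cancel_right]
  have hfixw : d • (w • c) = w • c := by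
    have hdc' : d • c = w₁ • c := by rw [e, mul_smul, hdc]
    calc d • (w • c) = (d * w * d⁻¹) • (d • c) := by rw [← mul_smul, ← mul_smul]; congr 1; group
      _ = (d * w * d⁻¹ * w₁) • c := by rw [hdc', ← mul_smul]
      _ = w • c := by rw [hX]
  refine ⟨w⁻¹, inv_mem hw, ?_⟩
  rw [inv_smul_eq_iff]
  by_contra hne
  refine hd1 (h.three_fixed hb.symm hne (fun e' => ?_) hd0 hdb hfixw)
  exact hc (smul_left_cancel w (e'.symm.trans (h.smul_base.mpr (le_normalizer hw)).symm))

theorem card_pts : Nat.card (Pts P t) = Nat.card (P.comp t) + 1 := by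
  classical
  obtain ⟨b, hb⟩ := h.exists_ne_base
  haveI := Fintype.ofFinite (Pts P t)
  have h1 : Nat.card (P.comp t) = Nat.card {x : Pts P t // x ≠ base P t} := by
    refine Nat.card_eq_of_bijective (fun w => ⟨(w : G) • b, fun e => hb ?_⟩) ⟨?_, ?_⟩
    · exact smul_left_cancel (w : G) (e.trans (h.smul_base.mpr (le_normalizer w.2)).symm)
    · intro x y e
      have e' : (x : G) • b = (y : G) • b := congrArg Subtype.val e
      have := h.comp_inf_two hb (x := (y : G)⁻¹ * x) (by rw [mul_smul, e', inv_smul_smul])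
        (mul_mem (inv_mem y.2) x.2)
      exact Subtype.ext (inv_mul_eq_one.mp this).symm
    · rintro ⟨c, hc⟩
      obtain ⟨w, hw, e⟩ := h.transitive hb hc
      exact ⟨⟨w, hw⟩, Subtype.ext e⟩
  rw [h1, Nat.card_eq_fintype_card, Nat.card_eq_fintype_card, Fintype.card_subtype_compl,
    Fintype.card_subtype_eq]
  have : 1 ≤ Fintype.card (Pts P t) := Fintype.card_pos
  omega

theorem even_comp : Even (Nat.card (P.comp t)) :=
  even_iff_two_dvd.mpr (h.ord ▸ Subgroup.orderOf_dvd_natCard (P.comp t) (P.mem t h.ne_one))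

theorem odd_pts : Odd (Nat.card (Pts P t)) := by
  rw [h.card_pts]; exact h.even_comp.add_one

theorem gen {v g : G} (hv : v ∉ normalizer (P.comp t : Set G))
    (hg : g ∉ normalizer (P.comp t : Set G)) :
    ∃ w ∈ P.comp t, ∃ m ∈ normalizer (P.comp t : Set G), g = w * v * m := by
  obtain ⟨w, hw, e⟩ := h.transitive (b := v • base P t) (c := g • base P t)
    (fun e => hv (h.smul_base.mp e)) (fun e => hg (h.smul_base.mp e))
  refine ⟨w, hw, (w * v)⁻¹ * g, h.smul_base.mp ?_, by group⟩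
  rw [mul_smul, inv_smul_eq_iff, mul_smul, e]

theorem all_involutions {N : Subgroup G} (hN : N.Normal) (hN1 : N ≠ ⊥) :
    ∀ v : G, orderOf v = 2 → v ∈ N := by
  haveI := hN
  haveI : Nontrivial N := (nontrivial_iff_ne_bot N).mpr hN1
  obtain ⟨⟨u, hu⟩, hu2⟩ := Normalisers5.exists_involution (NoSolv.normal h.noSolv N)
  rw [Subgroup.orderOf_mk] at hu2
  have key : ∀ v : G, orderOf v = 2 → ∃ g : G, g * t * g⁻¹ = v := fun v hv => by
    obtain ⟨g, hg⟩ := h.exists_conj_mem hv
    obtain ⟨m, -, e⟩ := h.conj_in_norm hg (by rw [orderOf_conj_eq, hv])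
    exact ⟨g⁻¹ * m, by
      calc g⁻¹ * m * t * (g⁻¹ * m)⁻¹ = g⁻¹ * (m * t * m⁻¹) * g := by group
        _ = v := by rw [e]; group⟩
  obtain ⟨g, hg⟩ := key u hu2
  have ht : t ∈ N := by
    have h' := hN.conj_mem u hu g⁻¹
    rw [← hg] at h'
    simpa [mul_assoc] using h'
  intro v hv
  obtain ⟨g, rfl⟩ := key v hv
  exact hN.conj_mem t ht g

theorem simple : IsSimpleGroup G := by
  haveI : Nontrivial G := nontrivial_of_ne t 1 h.ne_one
  refine ⟨fun N hN => (or_iff_not_imp_left.mpr fun hN1 => ?_)⟩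
  have hall := h.all_involutions hN hN1
  obtain ⟨v, hv, hvM⟩ := h.exists_outside
  obtain ⟨b, hb⟩ := h.exists_ne_base
  have hD : ∀ d : G, d • base P t = base P t → d • b = b → d ∈ N := by
    intro d h0 h1
    obtain ⟨v₀, hv₀⟩ := h.exists_swapper hb.symm
    obtain ⟨-, v', hv', rfl⟩ := h.inverts_base hb hv₀ h0 h1
    exact mul_mem (hall _ hv'.1) (hall _ hv₀.1)
  have hW : ∀ w ∈ P.comp t, w ∈ N := by
    obtain ⟨d, hd1, hd0, hdb⟩ := h.exists_two_ne_one hb
    have hdM := h.smul_base.mp hd0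
    let f : P.comp t → P.comp t :=
      fun w => ⟨(w : G) * (d * (w : G)⁻¹ * d⁻¹), mul_mem w.2 (h.conj_mem_comp hdM (inv_mem w.2))⟩
    have hinj : Function.Injective f := by
      intro x y e
      have e1 : (x : G) * (d * (x : G)⁻¹ * d⁻¹) = y * (d * (y : G)⁻¹ * d⁻¹) := congrArg Subtype.val e
      have hfix : d * ((y : G)⁻¹ * x) * d⁻¹ = (y : G)⁻¹ * x := by
        calc d * ((y : G)⁻¹ * x) * d⁻¹
            = (y : G)⁻¹ * (y * (d * (y : G)⁻¹ * d⁻¹)) * (d * x * d⁻¹) := by group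
          _ = _ := by rw [← e1]; group
      exact Subtype.ext (inv_mul_eq_one.mp (h.fpf hb hd0 hdb hd1 (mul_mem (inv_mem y.2) x.2)
        (mul_inv_eq_iff_eq_mul.mp hfix))).symm
    intro w hw
    obtain ⟨x, hx⟩ := (Finite.injective_iff_surjective.mp hinj) ⟨w, hw⟩
    have hx' : (x : G) * (d * (x : G)⁻¹ * d⁻¹) = w := congrArg Subtype.val hx
    rw [← hx']
    have h1 := mul_mem (hN.conj_mem d (hD d hd0 hdb) (x : G)) (inv_mem (hD d hd0 hdb))
    simpa [mul_assoc] using h1
  have hM : ∀ m ∈ normalizer (P.comp t : Set G), m ∈ N := by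
    intro m hm
    obtain ⟨w, hw, d, h0, h1, rfl⟩ := h.exists_mul hb hm
    exact mul_mem (hW w hw) (hD d h0 h1)
  refine eq_top_iff.mpr fun g _ => ?_
  by_cases hg : g ∈ normalizer (P.comp t : Set G)
  · exact hM g hg
  · obtain ⟨w, hw, m, hm, rfl⟩ := h.gen hvM hg
    exact mul_mem (mul_mem (hW w hw) (hall v hv)) (hM m hm)

theorem zassenhaus : Cfsg.IsZassenhausGroup G (Pts P t) := by
  classical
  obtain ⟨b, hb⟩ := h.exists_ne_base
  obtain ⟨d, hd1, hd0, hdb⟩ := h.exists_two_ne_one hb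
  obtain ⟨v₀, hv₀⟩ := h.exists_swapper hb.symm
  refine ⟨⟨fun {g₁ g₂} hg => ?_⟩, MulAction.is_two_pretransitive_iff.mpr ?_,
    fun g a b c hab hbc hac h1 h2 h3 => h.three_fixed hab hbc hac h1 h2 h3,
    ⟨d, hd1, base P t, b, hb.symm, hd0, hdb⟩, ?_⟩
  · have h' : ∀ x : Pts P t, (g₂⁻¹ * g₁) • x = x := fun x => by
      rw [mul_smul, hg x, inv_smul_smul]
    obtain ⟨c, hcb, hco⟩ : ∃ c : Pts P t, c ≠ b ∧ c ≠ base P t := by
      haveI := Fintype.ofFinite (Pts P t)
      by_contra hne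
      push Not at hne
      have hle : Fintype.card (Pts P t) ≤ ({b, base P t} : Finset (Pts P t)).card :=
        Finset.card_le_card fun x _ => by
          by_cases hx : x = b
          · simp [hx]
          · simp [hne x hx]
      rw [← Nat.card_eq_fintype_card, h.card_pts, Finset.card_pair hb] at hle
      have := h.even_comp
      have hpos : 0 < Nat.card (P.comp t) := Nat.card_pos
      obtain ⟨j, hj⟩ := this
      omega
    exact (inv_mul_eq_one.mp (h.three_fixed hb.symm hcb.symm hco.symm (h' _) (h' _) (h' _))).symm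
  · intro a a' c c' ha hc
    have key : ∀ a a' : Pts P t, a ≠ a' → ∃ g : G, g • base P t = a ∧ g • b = a' := by
      intro a a' ha
      obtain ⟨g, rfl⟩ := QuotientGroup.mk_surjective a
      have hg : g • base P t = (g : Pts P t) := by
        rw [MulAction.Quotient.smul_coe, smul_eq_mul, mul_one]
      obtain ⟨w, hw, e⟩ := h.transitive hb (c := g⁻¹ • a') (fun e => ha (by
        rw [← hg, ← e, smul_inv_smul]))
      refine ⟨g * w, ?_, by rw [mul_smul, e, smul_inv_smul]⟩
      rw [mul_smul, h.smul_base.mpr (le_normalizer hw), hg]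
    obtain ⟨g₁, e1, e2⟩ := key a a' ha
    obtain ⟨g₂, e3, e4⟩ := key c c' hc
    exact ⟨g₂ * g₁⁻¹, by rw [← e1, mul_smul, inv_smul_smul, e3],
      by rw [← e2, mul_smul, inv_smul_smul, e4]⟩
  · intro N hN hNt
    by_contra hne
    push Not at hne
    have hreg : Function.Bijective (fun g : N => g • base P t) := by
      refine ⟨fun x y e => ?_, fun c => hNt.exists_smul_eq (base P t) c⟩
      have hm : y⁻¹ * x ∈ stabilizer N (base P t) := by
        show (y⁻¹ * x) • base P t = base P t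
        rw [mul_smul, show x • base P t = y • base P t from e, inv_smul_smul]
      have hm' : y⁻¹ * x = 1 := Subgroup.mem_bot.mp (hne (base P t) ▸ hm)
      exact (inv_mul_eq_one.mp hm').symm
    have hodd : Odd (Nat.card N) := Nat.card_eq_of_bijective _ hreg ▸ h.odd_pts
    have hbot := h.noSolv N hN (Cfsg.Agent.S0205.result hodd)
    obtain ⟨g, hg⟩ := hreg.2 b
    have : (g : G) = 1 := Subgroup.mem_bot.mp (hbot ▸ g.2)
    refine hb ?_
    rw [← hg]
    show (g : G) • base P t = base P t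
    rw [this, one_smul]

theorem isPGroup_comp : IsPGroup 2 (P.comp t) := by
  haveI := h.simple
  haveI := Fintype.ofFinite (Pts P t)
  have hpp := Cfsg.Agent.S0346.result h.zassenhaus
  rw [← Nat.card_eq_fintype_card, h.card_pts, Nat.add_sub_cancel] at hpp
  obtain ⟨p, k, hp, hk, e⟩ := hpp
  have hp' := hp.nat_prime
  have : p = 2 := by
    have h2 : 2 ∣ Nat.card (P.comp t) := h.even_comp.two_dvd
    rw [← e] at h2
    exact ((Nat.prime_dvd_prime_iff_eq Nat.prime_two hp').mp (Nat.prime_two.dvd_of_dvd_pow h2)).symm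
  exact IsPGroup.of_card (n := k) (by rw [← e, this])

theorem large : 16 < Nat.card G := by
  obtain ⟨b, hb⟩ := h.exists_ne_base
  have hk : 2 ≤ kk P t := h.one_lt_index
  have hodd : kk P t ≠ 2 := by
    intro e
    haveI : Fact (Nat.Prime 2) := ⟨Nat.prime_two⟩
    obtain ⟨⟨d, hd⟩, hdo⟩ := exists_prime_orderOf_dvd_card'
      (G := ↥(stabilizer G (base P t) ⊓ stabilizer G b)) 2 (by rw [h.card_two hb, e])
    rw [Subgroup.orderOf_mk] at hdo
    have := h.two_odd hb.symm hd.1 hd.2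
    rw [hdo] at this
    exact Nat.not_even_iff_odd.mpr this even_two
  have hW : kk P t < Nat.card (P.comp t) := by
    rw [kk, ← h.card_involutions]
    refine lt_of_le_of_ne (Nat.card_le_card_of_injective (fun x => (⟨x.1, x.2.1⟩ : P.comp t))
      fun x y e => Subtype.ext (congrArg Subtype.val e :)) fun e => ?_
    obtain ⟨⟨x, _, hx2⟩, hx⟩ := ((Nat.bijective_iff_injective_and_card
      (fun x : {x : G // x ∈ P.comp t ∧ orderOf x = 2} => (⟨x.1, x.2.1⟩ : P.comp t))).mpr
      ⟨fun x y e => Subtype.ext (congrArg Subtype.val e :), e⟩).2 1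
    have : x = 1 := congrArg Subtype.val hx
    rw [this, orderOf_one] at hx2
    omega
  have e2 : Nat.card (normalizer (P.comp t : Set G)) = Nat.card (P.comp t) * kk P t := by
    rw [kk, ← Subgroup.card_mul_index ((P.comp t).subgroupOf (normalizer (P.comp t : Set G))),
      Nat.card_congr (Subgroup.subgroupOfEquivOfLe (le_normalizer (H := P.comp t))).toEquiv]
  have e : Nat.card G = Nat.card (Pts P t) * Nat.card (normalizer (P.comp t : Set G)) :=
    Subgroup.card_eq_card_quotient_mul_card_subgroup _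
  rw [h.card_pts, e2] at e
  rw [e]
  calc 16 < 5 * (4 * 3) := by norm_num
    _ ≤ _ := Nat.mul_le_mul (by omega) (Nat.mul_le_mul (by omega) (by omega))

theorem psl_or_suzuki : (∃ (F : Type) (_ : Field F) (_ : Fintype F), 4 ≤ Fintype.card F ∧
      Nonempty (G ≃* Matrix.ProjectiveSpecialLinearGroup (Fin 2) F)) ∨
    Cfsg.Lie.IsoSuzuki G := by
  haveI := h.simple
  haveI : Fact (Nat.Prime 2) := ⟨Nat.prime_two⟩
  obtain ⟨T, htT, hT⟩ := h.exists_sylow_le
  have hTW : (T : Subgroup G) = P.comp t := (T.3 h.isPGroup_comp hT).symm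
  have hconj : ∀ v : G, orderOf v = 2 → ∃ g : G, g * t * g⁻¹ = v := fun v hv => by
    obtain ⟨g, hg⟩ := h.exists_conj_mem hv
    obtain ⟨m, -, e⟩ := h.conj_in_norm hg (by rw [orderOf_conj_eq, hv])
    exact ⟨g⁻¹ * m, by
      calc g⁻¹ * m * t * (g⁻¹ * m)⁻¹ = g⁻¹ * (m * t * m⁻¹) * g := by group
        _ = v := by rw [e]; group⟩
  have hX : CIT.IsCIT G := by
    intro v hv
    obtain ⟨g, rfl⟩ := hconj v hv
    refine fun ⟨x, hx⟩ => ?_
    have hx' : g⁻¹ * x * g ∈ P.comp t := h.cent (mem_cent_of_commute (by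
      have := (commute_of_mem_cent hx).map (MulAut.conj g⁻¹)
      simpa [mul_assoc] using this))
    obtain ⟨k, hk⟩ := h.isPGroup_comp ⟨_, hx'⟩
    refine ⟨k, Subtype.ext ?_⟩
    have hk' : (g⁻¹ * x * g) ^ 2 ^ k = 1 := congrArg Subtype.val hk
    have e : x = g * (g⁻¹ * x * g) * g⁻¹ := by group
    show x ^ 2 ^ k = 1
    rw [e, conj_pow, hk', mul_one, mul_inv_cancel]
  have hTI : CIT.TI G := by
    intro S R hne
    refine (Subgroup.eq_bot_iff_forall _).mpr fun x hx => ?_
    by_contra hx1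
    obtain ⟨g₁, hg₁⟩ := sylow_conj T S
    obtain ⟨g₂, hg₂⟩ := sylow_conj T R
    have a1 : ∀ y, y ∈ (S : Subgroup G) ↔ y ∈ P.comp (g₁ * t * g₁⁻¹) := fun y => by
      rw [P.comp_conj h.ne_one, hg₁ y, hTW]
    have a2 : ∀ y, y ∈ (R : Subgroup G) ↔ y ∈ P.comp (g₂ * t * g₂⁻¹) := fun y => by
      rw [P.comp_conj h.ne_one, hg₂ y, hTW]
    have e := P.disjoint (fun e => h.ne_one (conj_eq_one_iff.mp e))
      (fun e => h.ne_one (conj_eq_one_iff.mp e)) ((a1 x).mp hx.1) ((a2 x).mp hx.2) hx1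
    exact hne (Sylow.ext (SetLike.ext fun y => by rw [a1, a2, e]))
  have hnc : ∃ a b : G, a * b ≠ b * a := by
    by_contra hne
    push Not at hne
    exact h.norm_ne_top (eq_top_iff.mpr fun g _ => le_normalizer
      (h.cent (mem_cent_of_commute (hne g t))))
  rcases CIT.ti_simple hnc hX hTI with ⟨F, iF, iFt, ⟨n, hn⟩, ⟨e⟩⟩ | ⟨hS, -⟩
  · refine Or.inl ⟨F, iF, iFt, ?_, ⟨e⟩⟩
    by_contra hlt
    classical
    have h1 : 1 < Fintype.card F := Fintype.one_lt_card
    have hF : Fintype.card F = 2 := by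
      rcases n with _ | _ | n
      · omega
      · simpa using hn
      · rw [hn] at hlt
        exact absurd (Nat.pow_le_pow_right two_pos (show 2 ≤ n + 1 + 1 by omega)) (by omega)
    have hc : Nat.card G ≤ 16 := by
      rw [Nat.card_congr e.toEquiv]
      refine le_trans (Nat.card_le_card_of_surjective (QuotientGroup.mk (s := Subgroup.center
        (Matrix.SpecialLinearGroup (Fin 2) F))) QuotientGroup.mk_surjective) ?_
      refine le_trans (Nat.card_le_card_of_injective
        (fun A : Matrix.SpecialLinearGroup (Fin 2) F => fun i j => A.1 i j)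
        (fun A B e => Subtype.ext (Matrix.ext fun i j => congrFun (congrFun e i) j))) ?_
      rw [Nat.card_eq_fintype_card, Fintype.card_fun, Fintype.card_fun, hF, Fintype.card_fin]
      norm_num
    exact absurd h.large (not_lt.mpr hc)
  · exact Or.inr hS

end Emb

end Cfsg.Agent.PartitionGroups45
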