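import Cfsg.Agent.PartitionGroups45.NormalComp
import Cfsg.Agent.Normalisers5.Core
import Cfsg.Agent.Lib.Involution.Dihedral
import Cfsg.Agent.Lib.Fitting.Minimal

/-!
# An involution whose centraliser lies in its component
-/

set_option autoImplicit false
set_option linter.unusedSectionVars false
set_option linter.style.haveILetI false

namespace Cfsg.Agent.PartitionGroups45

open Subgroup Cfsg.Agent.Normalisers5

variable {G : Type*} [Group G] [Finite G]

/-- Some involution has its centraliser inside its component; `W` is this component. -/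
structure Emb (P : Comp G) (t : G) : Prop where
  noOutcome : ¬ Outcome G
  noSolv : NoSolv G
  ord : orderOf t = 2
  cent : centralizer ({t} : Set G) ≤ P.comp t

theorem Comp.not_normal (P : Comp G) (hG : ¬ Outcome G) (hn : NoSolv G) {g : G} (hg : g ≠ 1) :
    ¬ (P.comp g).Normal := by
  intro h
  obtain h' | ⟨r, hr, hWr⟩ := P.normal_comp hg
  · exact hG h'
  haveI := Fact.mk hr
  haveI : Group.IsNilpotent (P.comp g) := hWr.isNilpotent
  have := hn _ h inferInstance
  exact hg (Subgroup.mem_bot.mp (this ▸ P.mem g hg))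

namespace Emb

variable {P : Comp G} {t : G} (h : Emb P t)
include h

theorem ne_one : t ≠ 1 := ne_one_of_two h.ord

theorem norm_ne_top : normalizer (P.comp t : Set G) ≠ ⊤ := fun e =>
  P.not_normal h.noOutcome h.noSolv h.ne_one (normalizer_eq_top_iff.mp e)

theorem norm_ne_self : normalizer (P.comp t : Set G) ≠ P.comp t :=
  P.norm_ne_self h.noOutcome h.ne_one

/-- The involutions of the normaliser lie in the component. -/
theorem mem_of_involution {u : G} (hu : u ∈ normalizer (P.comp t : Set G)) (h2 : orderOf u = 2) :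
    u ∈ P.comp t := by
  by_contra hu'
  have hinv := P.inverts h.ne_one hu hu' (by rw [mul_self_eq_one h2]; exact one_mem _)
    (P.mem t h.ne_one)
  rw [inv_eq_self' h.ord] at hinv
  exact hu' (h.cent (mem_cent_of_commute (mul_inv_eq_iff_eq_mul.mp hinv)))

theorem mem_of_sq {g : G} (hg : g ∈ normalizer (P.comp t : Set G)) (h2 : g * g ∈ P.comp t) :
    g ∈ P.comp t := by
  by_contra hg'
  have h1 := P.pow_eq_one_of_not_mem h.ne_one hg' (k := 2) (by rwa [pow_two])
  exact hg' (h.mem_of_involution hg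
    (orderOf_two (by rwa [← pow_two]) fun e => hg' (e ▸ one_mem _)))

theorem cent_le {s : G} (hs : s ∈ P.comp t) (h2 : orderOf s = 2) :
    centralizer ({s} : Set G) ≤ P.comp t := by
  intro g hg
  have hc := commute_of_mem_cent hg
  by_contra hg'
  have e := P.eq_of_mem t s h.ne_one hs (ne_one_of_two h2)
  obtain ⟨r, -, e1, e2⟩ := P.orderOf_of_commute hc.symm (ne_one_of_two h2) (e ▸ hg')
  exact hg' (h.mem_of_involution (P.mem_norm_of_commute h.ne_one hs (ne_one_of_two h2) hc)
    (by rw [e2, ← e1, h2]))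

theorem mem_norm {g s : G} (hs : s ∈ P.comp t) (hs1 : s ≠ 1) (hg : g * s * g⁻¹ ∈ P.comp t) :
    g ∈ normalizer (P.comp t : Set G) :=
  P.mem_norm_of_conj_mem h.ne_one hs hs1 hg

theorem exists_sylow_le :
    ∃ T : Sylow 2 G, t ∈ (T : Subgroup G) ∧ (T : Subgroup G) ≤ P.comp t := by
  haveI : Fact (Nat.Prime 2) := ⟨Nat.prime_two⟩
  obtain ⟨T, hT⟩ := exists_sylow_mem h.ord
  refine ⟨T, hT, ?_⟩
  haveI : Nontrivial (T : Subgroup G) :=
    nontrivial_of_ne ⟨t, hT⟩ 1 fun e => h.ne_one (congrArg Subtype.val e)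
  obtain ⟨z, hz⟩ := exists_prime_orderOf_dvd_card' (G := center (T : Subgroup G)) 2
    (PGroup.dvd_card_center T.2)
  have hzc : ∀ x ∈ (T : Subgroup G), Commute x ((z : (T : Subgroup G)) : G) := fun x hx =>
    congrArg Subtype.val (mem_center_iff.mp z.2 ⟨x, hx⟩)
  have hz2 : orderOf ((z : (T : Subgroup G)) : G) = 2 := by
    rw [Subgroup.orderOf_coe, Subgroup.orderOf_coe, hz]
  exact fun x hx => h.cent_le (h.cent (mem_cent_of_commute (hzc t hT).symm)) hz2
    (mem_cent_of_commute (hzc x hx))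

theorem exists_conj_mem {v : G} (hv : orderOf v = 2) : ∃ g : G, g * v * g⁻¹ ∈ P.comp t := by
  obtain ⟨T, -, hT⟩ := h.exists_sylow_le
  obtain ⟨T', hT'⟩ := exists_sylow_mem hv
  obtain ⟨g, hg⟩ := sylow_conj T T'
  exact ⟨g⁻¹, hT (by simpa using (hg v).mp hT')⟩

theorem exists_outside : ∃ v : G, orderOf v = 2 ∧ v ∉ normalizer (P.comp t : Set G) := by
  by_contra hne
  push Not at hne
  refine h.norm_ne_top (eq_top_iff.mpr fun g _ => h.mem_norm (P.mem t h.ne_one) h.ne_one ?_)
  have h2 : orderOf (g * t * g⁻¹) = 2 := by rw [orderOf_conj_eq, h.ord]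
  exact h.mem_of_involution (hne _ h2) h2

/-- The involutions of the component are conjugate in the normaliser. -/
theorem conj_in_norm {s : G} (hs : s ∈ P.comp t) (h2 : orderOf s = 2) :
    ∃ m ∈ normalizer (P.comp t : Set G), m * t * m⁻¹ = s := by
  obtain ⟨v, hv, hvM⟩ := h.exists_outside
  have key : ∀ s, s ∈ P.comp t → orderOf s = 2 → ∃ g : G, g * s * g⁻¹ = v := by
    intro s hs h2
    refine isConj_iff.mp (Involution.isConj_of_odd h2 hv ?_)
    by_contra hev
    rw [Nat.not_odd_iff_even] at hev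
    have hpos : orderOf (s * v) ≠ 0 := (orderOf_pos _).ne'
    set e := (s * v) ^ (orderOf (s * v) / 2)
    have he : orderOf e = 2 := Involution.orderOf_pow_half hev hpos
    have hse : Commute s e := (Involution.commute_pow_half_left (mul_self_eq_one h2)
      (mul_self_eq_one hv) hev).symm
    have hve : Commute v e := (Involution.commute_pow_half_right (mul_self_eq_one h2)
      (mul_self_eq_one hv) hev).symm
    exact hvM (le_normalizer
      (h.cent_le (h.cent_le hs h2 (mem_cent_of_commute hse.symm)) he (mem_cent_of_commute hve)))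
  obtain ⟨g₁, hg₁⟩ := key t (P.mem t h.ne_one) h.ord
  obtain ⟨g₂, hg₂⟩ := key s hs h2
  have e : g₂⁻¹ * g₁ * t * (g₂⁻¹ * g₁)⁻¹ = s := by
    calc g₂⁻¹ * g₁ * t * (g₂⁻¹ * g₁)⁻¹ = g₂⁻¹ * (g₁ * t * g₁⁻¹) * g₂ := by group
      _ = s := by rw [hg₁, ← hg₂]; group
  exact ⟨_, h.mem_norm (P.mem t h.ne_one) h.ne_one (e ▸ hs), e⟩

theorem comp_nilpotent : Group.IsNilpotent (P.comp t) := by
  obtain ⟨z, r, hr, hz, hz', hzr⟩ := P.exists_mem_norm_prime h.norm_ne_self
  exact P.isNilpotent_comp hr h.ne_one hz hz' hzr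

theorem central {s : G} (hs : s ∈ P.comp t) (h2 : orderOf s = 2) :
    ∀ w ∈ P.comp t, Commute w s := by
  haveI := h.comp_nilpotent
  haveI : Fact (Nat.Prime 2) := ⟨Nat.prime_two⟩
  obtain ⟨R⟩ : Nonempty (Sylow 2 (P.comp t)) := inferInstance
  haveI : (R : Subgroup (P.comp t)).Normal :=
    R.normal_of_normalizerCondition Group.normalizerCondition_of_isNilpotent
  have h2W : 2 ∣ Nat.card (P.comp t) := h2 ▸ Subgroup.orderOf_dvd_natCard _ hs
  have hne := Fitting.inf_center_ne_bot (N := (R : Subgroup (P.comp t))) (R.ne_bot_of_dvd_card h2W)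
  obtain ⟨⟨c, hc⟩, hc1⟩ := Subgroup.ne_bot_iff_exists_ne_one.1 hne
  obtain ⟨k, hk⟩ := even_orderOf_of_mem R.2 (mem_inf.mp hc).1 fun e => hc1 (Subtype.ext e)
  set z := c ^ 2 ^ k
  have hz2 : orderOf (z : G) = 2 := by
    rw [Subgroup.orderOf_coe, orderOf_pow_of_dvd (by positivity) (by rw [hk]; exact ⟨2, pow_succ 2 k⟩),
      hk, pow_succ, Nat.mul_div_cancel_left _ (by positivity)]
  have hzc : ∀ w ∈ P.comp t, Commute w (z : G) := fun w hw =>
    congrArg Subtype.val (mem_center_iff.mp (pow_mem (mem_inf.mp hc).2 (2 ^ k)) ⟨w, hw⟩)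
  obtain ⟨m₁, hm₁, e₁⟩ := h.conj_in_norm z.2 hz2
  obtain ⟨m₂, hm₂, e₂⟩ := h.conj_in_norm hs h2
  intro w hw
  set m := m₂ * m₁⁻¹
  have hm : m ∈ normalizer (P.comp t : Set G) := mul_mem hm₂ (inv_mem hm₁)
  have hw' : m⁻¹ * w * m ∈ P.comp t := by
    simpa using (Subgroup.mem_normalizer_iff.mp (inv_mem hm) w).mp hw
  have e : m * (z : G) * m⁻¹ = s := by rw [← e₁, ← e₂]; simp only [m]; group
  have := (hzc _ hw').map (MulAut.conj m)
  rw [← e]
  simpa [mul_assoc] using this

theorem cent_eq {s : G} (hs : s ∈ P.comp t) (h2 : orderOf s = 2) :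
    centralizer ({s} : Set G) = P.comp t :=
  le_antisymm (h.cent_le hs h2) fun w hw => mem_cent_of_commute (h.central hs h2 w hw)

/-- There are as many involutions in the component as it has cosets in its normaliser. -/
theorem card_involutions : Nat.card {x : G // x ∈ P.comp t ∧ orderOf x = 2} =
    ((P.comp t).subgroupOf (normalizer (P.comp t : Set G))).index := by
  set M := normalizer (P.comp t : Set G)
  set W' := (P.comp t).subgroupOf M
  let f : M ⧸ W' → {x : G // x ∈ P.comp t ∧ orderOf x = 2} := Quotient.lift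
    (fun m : M => ⟨(m : G) * t * (m : G)⁻¹,
      (Subgroup.mem_normalizer_iff.mp m.2 t).mp (P.mem t h.ne_one),
      by rw [orderOf_conj_eq, h.ord]⟩) (fun a b hab => by
      have hab' : (a : G)⁻¹ * b ∈ P.comp t := (QuotientGroup.leftRel_apply (s := W')).mp hab
      refine Subtype.ext ?_
      have hc := h.central (P.mem t h.ne_one) h.ord _ hab'
      show (a : G) * t * (a : G)⁻¹ = b * t * (b : G)⁻¹
      calc (a : G) * t * (a : G)⁻¹ = a * (((a : G)⁻¹ * b) * t * ((a : G)⁻¹ * b)⁻¹) * (a : G)⁻¹ := by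
            rw [hc.eq, mul_inv_cancel_right]
        _ = _ := by group)
  refine (Nat.card_eq_of_bijective f ⟨?_, ?_⟩).symm
  · intro a b hab
    induction a using Quotient.inductionOn with | _ a => ?_
    induction b using Quotient.inductionOn with | _ b => ?_
    refine Quotient.sound (QuotientGroup.leftRel_apply.mpr (h.cent ?_))
    have hab' : (a : G) * t * (a : G)⁻¹ = b * t * (b : G)⁻¹ := congrArg Subtype.val hab
    refine mem_cent_of_commute ?_
    show ((a : G)⁻¹ * b) * t = t * ((a : G)⁻¹ * b)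
    refine mul_inv_eq_iff_eq_mul.mp ?_
    calc ((a : G)⁻¹ * b) * t * ((a : G)⁻¹ * b)⁻¹ = (a : G)⁻¹ * (b * t * (b : G)⁻¹) * a := by group
      _ = t := by rw [← hab']; group
  · rintro ⟨x, hx, hx2⟩
    obtain ⟨m, hm, e⟩ := h.conj_in_norm hx hx2
    exact ⟨Quotient.mk _ ⟨m, hm⟩, Subtype.ext e⟩

theorem one_lt_index :
    1 < ((P.comp t).subgroupOf (normalizer (P.comp t : Set G))).index := by
  have hne : ((P.comp t).subgroupOf (normalizer (P.comp t : Set G))).index ≠ 1 := fun e =>
    h.norm_ne_self (le_antisymm (subgroupOf_eq_top.mp (index_eq_one.mp e)) le_normalizer)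
  have := Subgroup.index_ne_zero_of_finite
    (H := (P.comp t).subgroupOf (normalizer (P.comp t : Set G)))
  omega

end Emb

end Cfsg.Agent.PartitionGroups45
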