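import Mathlib

/-!
# Actions with vanishing norms

If every element of prime order acts with norm zero on an abelian group `V`, a subgroup of type
`q × q`, or one of type `q : s` with faithful action, forces `q • V = 0`.
-/

set_option autoImplicit false
set_option linter.unusedSectionVars false

namespace Cfsg.Agent.PartitionGroups45

open Subgroup
open scoped IsMulCommutative

variable {Q : Type*} [Group Q] {R : Type*} [Ring R] (ρ : Q →* R)

/-- The norm of every element of prime order vanishes. -/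
def NormZero : Prop :=
  ∀ (g : Q) (r : ℕ), r.Prime → g ≠ 1 → g ^ r = 1 → ∑ i ∈ Finset.range r, ρ (g ^ i) = 0

variable {ρ}

theorem pow_ne_one_of_lt {g : Q} {r j : ℕ} (hr : r.Prime) (hg : g ≠ 1) (h : g ^ r = 1)
    (hj : 0 < j) (hjr : j < r) : g ^ j ≠ 1 := by
  haveI := Fact.mk hr
  rw [← orderOf_eq_prime h hg] at hjr
  exact pow_ne_one_of_lt_orderOf hj.ne' hjr

theorem pow_pow_eq_one {g : Q} {r : ℕ} (h : g ^ r = 1) (j : ℕ) : (g ^ j) ^ r = 1 := by
  rw [← pow_mul, mul_comm, pow_mul, h, one_pow]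

theorem kill_of_commute (hN : NormZero ρ) {a b : Q} {q : ℕ} (hq : q.Prime) (ha : a ^ q = 1)
    (ha1 : a ≠ 1) (hb : b ^ q = 1) (hb1 : b ∉ zpowers a) (hc : Commute a b) : (q : R) = 0 := by
  have h0 : ∑ k ∈ Finset.range q, ∑ j ∈ Finset.range q, ρ ((a ^ k * b) ^ j) = 0 := by
    refine Finset.sum_eq_zero fun k _ => hN _ q hq (fun e => hb1 ?_) ?_
    · rw [eq_inv_of_mul_eq_one_right e]
      exact inv_mem (pow_mem (mem_zpowers a) k)
    · rw [(hc.pow_left k).mul_pow, hb, mul_one, pow_pow_eq_one ha]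
  rw [Finset.sum_comm, Finset.sum_eq_single_of_mem 0 (Finset.mem_range.mpr hq.pos)] at h0
  · simpa using h0
  · intro j hj hj0
    have hj' := pow_ne_one_of_lt hq ha1 ha (Nat.pos_of_ne_zero hj0) (Finset.mem_range.mp hj)
    have e : ∀ k : ℕ, ρ ((a ^ k * b) ^ j) = ρ ((a ^ j) ^ k) * ρ (b ^ j) := fun k => by
      rw [← map_mul, (hc.pow_left k).mul_pow, ← pow_mul, ← pow_mul, mul_comm k]
    simp only [e, ← Finset.sum_mul, hN _ q hq hj' (pow_pow_eq_one ha j), zero_mul]

theorem kill_of_normalises (hN : NormZero ρ) {a b : Q} {q s : ℕ} (hq : q.Prime) (hs : s.Prime)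
    (ha : a ^ q = 1) (ha1 : a ≠ 1) (hb : b ^ s = 1) (hn : b * a * b⁻¹ ∈ zpowers a)
    (hnc : ¬ Commute a b) : (q : R) = 0 := by
  have hb1 : b ≠ 1 := fun e => hnc (e ▸ Commute.one_right a)
  set c : ℕ → Q := fun j => a * (b ^ j * a⁻¹ * (b ^ j)⁻¹) with hcdef
  have hmem : ∀ j : ℕ, b ^ j * a * (b ^ j)⁻¹ ∈ zpowers a := by
    intro j
    induction j with
    | zero => simp
    | succ j ih =>
      obtain ⟨m, hm⟩ := mem_zpowers_iff.mp ih
      have e : b ^ (j + 1) * a * (b ^ (j + 1))⁻¹ = b * (a ^ m) * b⁻¹ := by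
        rw [hm, pow_succ']; group
      rw [e, ← conj_zpow]
      exact zpow_mem hn m
  have hcomm : ∀ j : ℕ, Commute a (b ^ j * a⁻¹ * (b ^ j)⁻¹) := fun j => by
    obtain ⟨m, hm⟩ := mem_zpowers_iff.mp (hmem j)
    have e : b ^ j * a⁻¹ * (b ^ j)⁻¹ = (a ^ m)⁻¹ := by rw [hm]; group
    rw [e]
    exact ((Commute.refl a).zpow_right m).inv_right
  have hcq : ∀ j, c j ^ q = 1 := fun j => by
    rw [hcdef, (hcomm j).mul_pow, ha, one_mul, conj_pow, inv_pow, ha]; group
  have hc1 : ∀ j : ℕ, 0 < j → j < s → c j ≠ 1 := fun j hj hjs e => by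
    have h1 : Commute a (b ^ j) := by
      have : b ^ j * a⁻¹ * (b ^ j)⁻¹ = a⁻¹ := eq_inv_of_mul_eq_one_right e
      exact (Commute.inv_left_iff.mp (mul_inv_eq_iff_eq_mul.mp this).symm)
    obtain ⟨m, hm⟩ : ∃ m : ℕ, (b ^ j) ^ m = b := by
      haveI := Fact.mk hs
      refine exists_pow_eq_self_of_coprime ?_
      rw [orderOf_eq_prime hb hb1]
      exact ((hs.coprime_iff_not_dvd).mpr fun h => absurd (Nat.le_of_dvd hj h) (by omega)).symm
    exact hnc (hm ▸ h1.pow_right m)
  have hcpow : ∀ j k : ℕ, c j ^ k * b ^ j = a ^ k * b ^ j * (a ^ k)⁻¹ := fun j k => by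
    rw [hcdef, (hcomm j).mul_pow, conj_pow, inv_pow]; group
  have h0 : ∑ k ∈ Finset.range q, ∑ j ∈ Finset.range s, ρ (c j ^ k) * ρ (b ^ j) = 0 := by
    refine Finset.sum_eq_zero fun k _ => ?_
    have e : ∀ j : ℕ, ρ (c j ^ k) * ρ (b ^ j) = ρ (a ^ k) * ρ (b ^ j) * ρ ((a ^ k)⁻¹) := fun j => by
      rw [← map_mul, ← map_mul, ← map_mul, hcpow]
    simp only [e, ← Finset.sum_mul, ← Finset.mul_sum, hN b s hs hb1 hb, mul_zero, zero_mul]
  rw [Finset.sum_comm, Finset.sum_eq_single_of_mem 0 (Finset.mem_range.mpr hs.pos)] at h0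
  · simpa [hcdef] using h0
  · intro j hj hj0
    rw [← Finset.sum_mul, hN _ q hq (hc1 j (Nat.pos_of_ne_zero hj0) (Finset.mem_range.mp hj)) (hcq j),
      zero_mul]

variable {G : Type*} [Group G]

/-- The action of `G` on a normal abelian subgroup, by conjugation. -/
noncomputable def actEnd (V : Subgroup G) [V.Normal] [IsMulCommutative V] :
    G →* AddMonoid.End (Additive V) where
  toFun g := MonoidHom.toAdditive (MulAut.conjNormal g : V ≃* V).toMonoidHom
  map_one' := by rw [map_one]; rfl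
  map_mul' g h := by rw [map_mul]; rfl

theorem actEnd_apply (V : Subgroup G) [V.Normal] [IsMulCommutative V] (g : G) (v : V) :
    ((Additive.toMul (actEnd V g (Additive.ofMul v)) : V) : G) = g * v * g⁻¹ := rfl

theorem actEnd_eq_one (V : Subgroup G) [V.Normal] [IsMulCommutative V] {g : G}
    (h : ∀ v ∈ V, g * v * g⁻¹ = v) : actEnd V g = 1 :=
  AddMonoidHom.ext fun v => Additive.toMul.injective (Subtype.ext (h _ (Additive.toMul v).2))

theorem mul_pow_eq_prod (V : Subgroup G) [V.Normal] [IsMulCommutative V] (z : G) (v : V) :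
    ∀ n : ℕ, ((v : G) * z) ^ n = ((∏ i ∈ Finset.range n,
      (MulAut.conjNormal (z ^ i) : V ≃* V) v : V) : G) * z ^ n := by
  intro n
  induction n with
  | zero => simp
  | succ n ih =>
    rw [Finset.prod_range_succ, Subgroup.coe_mul, pow_succ, ih, MulAut.conjNormal_apply, pow_succ z]
    group

theorem sum_actEnd_eq_zero (V : Subgroup G) [V.Normal] [IsMulCommutative V] {z : G} {n : ℕ}
    (h : ∀ v ∈ V, (v * z) ^ n = z ^ n) :
    ∑ i ∈ Finset.range n, actEnd V (z ^ i) = 0 := by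
  refine AddMonoidHom.ext fun v => ?_
  let ev : AddMonoid.End (Additive V) →+ Additive V :=
    { toFun := fun f => f v, map_zero' := rfl, map_add' := fun _ _ => rfl }
  show ev (∑ i ∈ Finset.range n, actEnd V (z ^ i)) = 0
  rw [map_sum]
  refine Additive.toMul.injective ?_
  rw [toMul_sum, toMul_zero]
  refine Subtype.ext ?_
  have := mul_pow_eq_prod V z (Additive.toMul v) n
  rw [h _ (Additive.toMul v).2, right_eq_mul] at this
  exact this

theorem pow_eq_one_of_natCast_eq_zero (V : Subgroup G) [V.Normal] [IsMulCommutative V] {q : ℕ}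
    (h : (q : AddMonoid.End (Additive V)) = 0) : ∀ v ∈ V, v ^ q = 1 := by
  intro v hv
  have := congrArg (fun f : AddMonoid.End (Additive V) => f (Additive.ofMul ⟨v, hv⟩)) h
  simp only [AddMonoid.End.natCast_apply] at this
  exact congrArg (fun x : Additive V => ((Additive.toMul x : V) : G)) this

end Cfsg.Agent.PartitionGroups45
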