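import Cfsg.Agent.PartitionGroups45.PCoreTwo
import Cfsg.Agent.PartitionGroups45.EmbMain
import Cfsg.Agent.PartitionGroups45.CaseB
import Cfsg.Agent.S3730
import Cfsg.Agent.S0265

/-!
# Finite groups with a nontrivial partition
-/

set_option autoImplicit false
set_option linter.unusedSectionVars false
set_option linter.style.haveILetI false

namespace Cfsg.Agent.PartitionGroups45

open Subgroup

variable {G : Type*} [Group G] [Finite G]

theorem exists_pCore_or_noSolv :
    (∃ p : ℕ, p.Prime ∧ Cfsg.pCore p G ≠ ⊥) ∨ Normalisers5.NoSolv G := by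
  refine or_iff_not_imp_left.mpr fun hne N hN hNs => ?_
  push Not at hne
  by_contra hN1
  haveI := hN
  obtain ⟨K, hK, hK0, hKN, hmin⟩ := Solvable.exists_minimal_normal_le N hN1
  haveI := hK
  haveI : Group.IsSolvable ↥N := hNs
  haveI : Group.IsSolvable ↥K :=
    Group.isSolvable_of_isSolvable_injective (Subgroup.inclusion_injective hKN)
  obtain ⟨p, hp, hKp, -⟩ := Solvable.exists_prime_of_minimal_normal K hK0 hmin
  exact hK0 (le_bot_iff.mp (hne p hp ▸ Fitting.le_pCore hK hKp))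

/-- Over a field of even order `PGL(2)` is `PSL(2)`. -/
theorem pgl_equiv_psl_of_even (F : Type) [Field F] [Fintype F] (h : ¬ Odd (Fintype.card F)) :
    Nonempty (Matrix.ProjGenLinGroup (Fin 2) F ≃* Matrix.ProjectiveSpecialLinearGroup (Fin 2) F) := by
  classical
  have h2 : (2 : F) = 0 := by
    obtain ⟨p, hp⟩ := CharP.exists F
    obtain ⟨n, hpp, hn⟩ := FiniteField.card F p
    have hp2 : p = 2 := by
      by_contra hne
      exact h (hn ▸ (hpp.odd_of_ne_two hne).pow)
    subst hp2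
    exact CharP.cast_eq_zero F 2
  have hc : Subgroup.center (Matrix.SpecialLinearGroup (Fin 2) F) = ⊥ := by
    refine (Subgroup.eq_bot_iff_forall _).mpr fun A hA => ?_
    obtain ⟨r, hr, hA'⟩ := Matrix.SpecialLinearGroup.mem_center_iff.mp hA
    rw [Fintype.card_fin] at hr
    have hr1 : r = 1 := by
      have h0 : (r - 1) * (r - 1) = 0 := by linear_combination hr + (1 - r) * h2
      exact sub_eq_zero.mp (mul_self_eq_zero.mp h0)
    refine Subtype.ext ?_
    rw [← hA', hr1, map_one]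
    rfl
  haveI : Finite (Matrix.ProjGenLinGroup (Fin 2) F) :=
    inferInstanceAs (Finite (GL (Fin 2) F ⧸ Subgroup.center (GL (Fin 2) F)))
  have hbij : Function.Bijective
      (Matrix.ProjectiveSpecialLinearGroup.toPGL (n := Fin 2) (R := F)) := by
    refine (Nat.bijective_iff_injective_and_card _).mpr
      ⟨Matrix.ProjectiveSpecialLinearGroup.toPGL_injective, ?_⟩
    rw [Cfsg.Agent.S0265.result (F := F) 2]
    show Nat.card (Matrix.SpecialLinearGroup (Fin 2) F ⧸
      Subgroup.center (Matrix.SpecialLinearGroup (Fin 2) F)) = _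
    rw [hc]
    exact Nat.card_congr QuotientGroup.quotientBot.toEquiv
  exact ⟨(MulEquiv.ofBijective _ hbij).symm⟩

/-- The classification. -/
theorem classification [Nontrivial G] (P : Comp G) :
    Nonempty (G ≃* Equiv.Perm (Fin 4)) ∨ Outcome G ∨
      (∃ (F : Type) (_ : Field F) (_ : Fintype F), 4 ≤ Fintype.card F ∧
        Nonempty (G ≃* Matrix.ProjectiveSpecialLinearGroup (Fin 2) F)) ∨
      (∃ (F : Type) (_ : Field F) (_ : Fintype F), 5 ≤ Fintype.card F ∧ Odd (Fintype.card F) ∧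
        Nonempty (G ≃* (GL (Fin 2) F ⧸ Subgroup.center (GL (Fin 2) F)))) ∨
      Cfsg.Lie.IsoSuzuki G := by
  by_cases hG : Outcome G
  · exact Or.inr (Or.inl hG)
  rcases exists_pCore_or_noSolv (G := G) with ⟨p, hp, hF⟩ | hn
  · exact Or.inl (perm_four_of_pCore P hG hp hF)
  refine Or.inr (Or.inr ?_)
  by_cases hemb : ∃ t : G, orderOf t = 2 ∧ centralizer ({t} : Set G) ≤ P.comp t
  · obtain ⟨t, ht, hc⟩ := hemb
    rcases Emb.psl_or_suzuki (P := P) ⟨hG, hn, ht, hc⟩ with h | h
    · exact Or.inl h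
    · exact Or.inr (Or.inr h)
  push Not at hemb
  obtain ⟨F, iF, iFt, h3, h⟩ :=
    Cfsg.Agent.S3730.result (G := G) hn (NoEmb.hyp (P := P) ⟨hG, hn, hemb⟩)
  rcases h with he | he <;> obtain ⟨e⟩ := he
  · exact Or.inl ⟨F, iF, iFt, by omega, ⟨e⟩⟩
  · by_cases hodd : Odd (Fintype.card F)
    · refine Or.inr (Or.inl ⟨F, iF, iFt, ?_, hodd, ⟨e⟩⟩)
      obtain ⟨j, hj⟩ := hodd
      omega
    · obtain ⟨e'⟩ := pgl_equiv_psl_of_even F hodd
      exact Or.inl ⟨F, iF, iFt, by omega, ⟨e.trans e'⟩⟩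

end Cfsg.Agent.PartitionGroups45
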