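import Cfsg.Agent.PartitionGroups45.Quot
import Cfsg.Agent.Lib.Fitting.Minimal
import Cfsg.Agent.Lib.Frobenius.Basic

/-!
# Normal components
-/

set_option autoImplicit false
set_option linter.unusedSectionVars false
set_option linter.style.haveILetI false

namespace Cfsg.Agent.PartitionGroups45

open Subgroup
open scoped IsMulCommutative

variable {G : Type*} [Group G] [Finite G]

/-- A prime divisor of the order of a nilpotent subgroup is the order of a central element. -/
theorem exists_central_prime {X : Subgroup G} (hX : Group.IsNilpotent X) {r : ℕ} (hr : r.Prime)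
    (h : r ∣ Nat.card X) :
    ∃ c ∈ (center X).map X.subtype, c ≠ 1 ∧ c ^ r = 1 := by
  haveI := hX
  haveI := Fact.mk hr
  obtain ⟨R⟩ : Nonempty (Sylow r X) := inferInstance
  haveI : (R : Subgroup X).Normal :=
    R.normal_of_normalizerCondition Group.normalizerCondition_of_isNilpotent
  have hne := Fitting.inf_center_ne_bot (N := (R : Subgroup X)) (R.ne_bot_of_dvd_card h)
  obtain ⟨c, hc, hc1, hcr⟩ := PGroup.exists_mem_pow_eq_one (p := r) R.2
    (H := (((R : Subgroup X) ⊓ center X)).subgroupOf R) (fun e => hne (by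
      have h0 := disjoint_iff.mp (subgroupOf_eq_bot.mp e)
      rwa [inf_comm, ← inf_assoc, inf_idem] at h0))
  rw [mem_subgroupOf] at hc
  refine ⟨((c : X) : G), mem_map_of_mem _ (mem_inf.mp hc).2,
    fun e => hc1 (Subtype.ext (Subtype.ext e)), ?_⟩
  simpa using congrArg (fun x : R => ((x : X) : G)) hcr

namespace Comp

variable (P : Comp G)

theorem outcome_of_self_centralizing {g : G} (hg : g ≠ 1) [hn : (P.comp g).Normal]
    (h : ∀ x ∈ P.comp g, x ≠ 1 → centralizer ({x} : Set G) ≤ P.comp g) : Outcome G := by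
  set X := P.comp g with hX
  have hcop : (Nat.card X).Coprime X.index := by
    refine Nat.coprime_of_dvd fun r hr h1 h2 => ?_
    haveI := Fact.mk hr
    obtain ⟨S⟩ : Nonempty (Sylow r G) := inferInstance
    obtain ⟨x, hx, hx1⟩ : ∃ x ∈ (S : Subgroup G), x ∈ X ∧ x ≠ 1 := by
      obtain ⟨⟨x, hx⟩, hxo⟩ := exists_prime_orderOf_dvd_card' r h1
      rw [Subgroup.orderOf_mk] at hxo
      have hx1 : x ≠ 1 := fun e => hr.ne_one (by rw [← hxo, e, orderOf_one])
      obtain ⟨R, hR⟩ := (IsPGroup.of_card (n := 1) (G := zpowers x) (by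
        rw [Nat.card_zpowers, hxo, pow_one])).exists_le_sylow
      obtain ⟨c, hc⟩ := MulAction.exists_smul_eq G R S
      refine ⟨c * x * c⁻¹, ?_, hn.conj_mem x hx c, fun e => hx1 (conj_eq_one_iff.mp e)⟩
      rw [← hc, Sylow.coe_subgroup_smul]
      exact ⟨x, hR (mem_zpowers x), rfl⟩
    have hne : X.subgroupOf S ≠ ⊥ := fun e => hx1.2 (by
      have h0 := subgroupOf_eq_bot.mp e
      exact disjoint_def.mp h0 hx1.1 hx)
    haveI : Nontrivial (S : Subgroup G) :=
      (nontrivial_iff_ne_bot _).mpr fun e => hx1.2 (by simpa [e] using hx)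
    obtain ⟨⟨z, hz⟩, hz1⟩ := Subgroup.ne_bot_iff_exists_ne_one.1
      (PGroup.inf_center_ne_bot (N := X.subgroupOf S) S.2 hne)
    have hz1' : (z : G) ≠ 1 := fun e => hz1 (Subtype.ext (Subtype.ext e))
    have hle : (S : Subgroup G) ≤ X := fun s hs => h _ (mem_inf.mp hz).1 hz1'
      (mem_centralizer_singleton_iff.mpr
        (congrArg Subtype.val (mem_center_iff.mp (mem_inf.mp hz).2 ⟨s, hs⟩)))
    exact S.not_dvd_index (h2.trans (index_dvd_of_le hle))
  obtain ⟨H, hH⟩ := exists_right_complement'_of_coprime hcop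
  refine Or.inr ⟨H, Frobenius.isFrobeniusComplement_of_fixedPointFree hH ?_ ?_ ?_⟩
  · exact fun e => hg (Subgroup.mem_bot.mp (e ▸ P.mem g hg : g ∈ (⊥ : Subgroup G)))
  · intro e
    rw [e, isComplement'_bot_right] at hH
    exact P.ne_top g hg hH
  · intro y hy hy1
    rw [Subgroup.eq_bot_iff_forall]
    rintro x ⟨hx, hxy⟩
    by_contra hx1
    exact hy1 (disjoint_def.mp hH.disjoint
      (h x hx hx1 (mem_centralizer_singleton_iff.mpr (mem_centralizer_singleton_iff.mp hxy).symm))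
      hy)

/-- A normal component of a non-Frobenius group is a `p`-group, unless the Hughes subgroup is
proper. -/
theorem normal_comp {g : G} (hg : g ≠ 1) [hn : (P.comp g).Normal] :
    Outcome G ∨ ∃ p : ℕ, p.Prime ∧ IsPGroup p (P.comp g) := by
  set X := P.comp g with hX
  by_cases hbad : ∀ x ∈ X, x ≠ 1 → centralizer ({x} : Set G) ≤ X
  · exact Or.inl (P.outcome_of_self_centralizing hg hbad)
  push Not at hbad
  obtain ⟨x, hx, hx1, hcx⟩ := hbad
  obtain ⟨y, hy, hyX⟩ := SetLike.not_le_iff_exists.mp hcx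
  rw [mem_centralizer_singleton_iff] at hy
  have hxX : P.comp x = X := P.eq_of_mem g x hg hx hx1
  obtain ⟨p, hp, hox, hoy⟩ := P.orderOf_of_commute (Commute.symm hy) hx1 (hxX ▸ hyX)
  have hNX : ∀ z : G, z ∈ normalizer (X : Set G) := fun z => by
    rw [Subgroup.normalizer_eq_top]; exact mem_top z
  have hyp : y ^ p = 1 := hoy ▸ pow_orderOf_eq_one y
  have hnil : Group.IsNilpotent X := P.isNilpotent_comp hp hg (hNX y) hyX (hyp ▸ one_mem _)
  by_cases hpg : ∃ p : ℕ, p.Prime ∧ IsPGroup p X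
  · exact Or.inr hpg
  refine Or.inl ?_
  set V := (center X).map X.subtype with hV
  haveI : V.Normal := Fitting.normal_map_subtype_of_characteristic _
  haveI : IsMulCommutative V := ⟨⟨fun a b => by
    obtain ⟨a', ha', ea⟩ := mem_map.mp a.2
    obtain ⟨b', -, eb⟩ := mem_map.mp b.2
    refine Subtype.ext ?_
    rw [Subgroup.coe_mul, Subgroup.coe_mul, ← ea, ← eb]
    exact (congrArg Subtype.val (mem_center_iff.mp ha' b')).symm⟩⟩
  have hVX : ∀ v ∈ V, v ∈ X := fun v hv => map_subtype_le (center X) hv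
  have hact : ∀ n ∈ X, ∀ v ∈ V, n * v * n⁻¹ = v := by
    rintro n hn _ ⟨v, hv, rfl⟩
    have : n * (v : G) = v * n := congrArg Subtype.val (mem_center_iff.mp hv ⟨n, hn⟩)
    exact mul_inv_eq_iff_eq_mul.mpr this
  set ρ := quotEnd X V hact
  have hN : NormZero ρ := normZero_quotEnd X V hact fun z r _ hz hzr =>
    sum_actEnd_eq_zero V fun v hv => by
      rw [P.mul_pow_eq_one hg (hNX z) hz hzr (hVX v hv), P.pow_eq_one_of_not_mem hg hz hzr]
  have hkill : ∀ q : ℕ, q.Prime → (q : AddMonoid.End (Additive V)) ≠ 0 := by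
    intro q hq h0
    have hq' := pow_eq_one_of_natCast_eq_zero V h0
    refine hpg ⟨q, hq, ?_⟩
    refine IsPGroup.of_card (n := (Nat.card X).primeFactorsList.length) ?_
    refine Nat.eq_prime_pow_of_unique_prime_dvd Nat.card_pos.ne' fun {r} hr hrd => ?_
    obtain ⟨c, hc, hc1, hcr⟩ := exists_central_prime hnil hr hrd
    by_contra hne
    exact hc1 (eq_one_of_two_pows ((Nat.coprime_primes hr hq).mpr hne) hcr (hq' c hc))
  have hpX : p ∣ Nat.card X := hox ▸ Subgroup.orderOf_dvd_natCard X hx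
  haveI := Fact.mk hp
  -- a `p`-subgroup of `X` invariant in `G`
  set U : Subgroup G := {
    carrier := {v | v ∈ V ∧ v ^ p = 1}
    one_mem' := ⟨one_mem _, one_pow _⟩
    mul_mem' := fun {a b} ha hb => ⟨mul_mem ha.1 hb.1, by
      have hc : Commute a b := congrArg Subtype.val (mul_comm (⟨a, ha.1⟩ : V) ⟨b, hb.1⟩)
      rw [hc.mul_pow, ha.2, hb.2, one_mul]⟩
    inv_mem' := fun {a} ha => ⟨inv_mem ha.1, by rw [inv_pow, ha.2, inv_one]⟩ } with hU
  have hUp : IsPGroup p U := fun u => ⟨1, Subtype.ext (by simpa using u.2.2)⟩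
  have hU1 : U ≠ ⊥ := by
    obtain ⟨c, hc, hc1, hcp⟩ := exists_central_prime hnil hp hpX
    intro e
    exact hc1 ((Subgroup.eq_bot_iff_forall _).mp e c ⟨hc, hcp⟩)
  have hUn : U.Normal := ⟨fun a ha c => ⟨Subgroup.Normal.conj_mem inferInstance a ha.1 c, by
    rw [conj_pow, ha.2, mul_one, mul_inv_cancel]⟩⟩
  have hfix : ∀ z : G, ∀ k : ℕ, z ^ p ^ k = 1 → ∃ u ∈ X, u ≠ 1 ∧ u ^ p = 1 ∧ Commute z u := by
    intro z k hk
    obtain ⟨u, hu, hu1, hc⟩ := exists_commute_ne_one hUp hU1 (z := z)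
      (by rw [Subgroup.normalizer_eq_top]; exact mem_top z) hk
    exact ⟨u, hVX u hu.1, hu1, hu.2, hc⟩
  have hexp2 : ∀ x : G ⧸ X, x ^ (p * p) = 1 → x ^ p = 1 := by
    intro x hx
    obtain ⟨z, rfl⟩ := QuotientGroup.mk_surjective x
    rw [mk_pow_eq_one] at hx ⊢
    by_cases hz : z ∈ X
    · exact pow_mem hz p
    by_cases hzp : z ^ p = 1
    · rw [hzp]; exact one_mem _
    have hz2 := P.pow_eq_one_of_not_mem hg hz hx
    have ho : orderOf z = p ^ 2 := orderOf_eq_prime_pow (n := 1) (by simpa using hzp)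
      (by rwa [pow_two])
    obtain ⟨u, hu, hu1, hup, hc⟩ := hfix z 2 (by rwa [pow_two])
    refine absurd ?_ hz
    rw [hX, ← P.eq_of_mem g u hg hu hu1]
    refine P.mem_of_commute hc.symm hu1 (Or.inr ?_)
    rw [ho, orderOf_eq_prime hup hu1]
    intro e
    have := Nat.pow_right_injective hp.two_le (e.trans (pow_one p).symm)
    omega
  have hexp : ∀ (x : G ⧸ X) (k : ℕ), x ^ p ^ k = 1 → x ^ p = 1 := by
    intro x k
    induction k generalizing x with
    | zero => intro h; simp only [pow_zero, pow_one] at h; rw [h, one_pow]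
    | succ k ih =>
      intro h
      rw [pow_succ', pow_mul] at h
      exact hexp2 x (by rw [pow_mul]; exact ih _ h)
  have hcent : ∀ a b : G ⧸ X, ∀ q : ℕ, q.Prime → q ≠ p → a ≠ 1 → a ^ p = 1 → b ^ q = 1 →
      Commute a b → b = 1 := by
    intro a b q hq hqp ha1 hap hbq hc
    by_contra hb1
    have hcop : q.Coprime p := (Nat.coprime_primes hq hp).mpr hqp
    obtain ⟨z, hz⟩ := QuotientGroup.mk_surjective (b * a)
    have hzq : ((z ^ q : G) : G ⧸ X) = a ^ q := by
      rw [QuotientGroup.mk_pow, hz, hc.symm.mul_pow, hbq, one_mul]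
    have hzp : ((z ^ p : G) : G ⧸ X) = b ^ p := by
      rw [QuotientGroup.mk_pow, hz, hc.symm.mul_pow, hap, mul_one]
    have haq : a ^ q ≠ 1 := fun e => ha1 (eq_one_of_two_pows hcop e hap)
    have hbp : b ^ p ≠ 1 := fun e => hb1 (eq_one_of_two_pows hcop hbq e)
    have hyX' : z ^ q ∉ X := mk_ne_one.mp (hzq ▸ haq)
    have hwX : z ^ p ∉ X := mk_ne_one.mp (hzp ▸ hbp)
    have hy'1 : z ^ q ≠ 1 := fun e => hyX' (e ▸ one_mem X)
    have hw1 : z ^ p ≠ 1 := fun e => hwX (e ▸ one_mem X)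
    have hzX : z ∉ X := fun e => hwX (pow_mem e p)
    have hall : z ^ (q * p) = 1 := P.pow_eq_one_of_not_mem hg hzX (by
      rw [← mk_pow_eq_one, hz, pow_mul, hc.symm.mul_pow, hbq, one_mul, ← pow_mul, mul_comm, pow_mul,
        hap, one_pow])
    have hyp' : (z ^ q) ^ p = 1 := by rwa [← pow_mul]
    obtain ⟨u, hu, hu1, hup, hcu⟩ := hfix (z ^ q) 1 (by simpa using hyp')
    have eW : P.comp (z ^ p) = P.comp (z ^ q) := by rw [P.eq_of_pow hw1, P.eq_of_pow hy'1]
    have hnotW : u * z ^ p ∉ P.comp (z ^ q) := by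
      intro h
      have hu' : u ∈ P.comp (z ^ p) := by
        rw [eW]
        have hm : z ^ p ∈ P.comp (z ^ q) := eW ▸ P.mem _ hw1
        have h' := mul_mem h (inv_mem hm)
        rwa [mul_inv_cancel_right] at h'
      have hm := P.mem _ hw1
      rw [P.disjoint hw1 hg hu' hu hu1] at hm
      exact hwX hm
    obtain ⟨r, hr, e1, e2⟩ := P.orderOf_of_commute
      (hcu.mul_right ((Commute.refl z).pow_pow q p)) hy'1 hnotW
    rw [orderOf_eq_prime hyp' hy'1] at e1
    have h0 : (u * z ^ p) ^ p = 1 := orderOf_dvd_iff_pow_eq_one.mp (by rw [e2, e1])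
    have h1 := congrArg (fun w : G => (w : G ⧸ X)) h0
    simp only [QuotientGroup.mk_pow, QuotientGroup.mk_mul, QuotientGroup.mk_one] at h1
    rw [(QuotientGroup.eq_one_iff u).mpr hu, one_mul, hz, hc.symm.mul_pow, hap, mul_one,
      ← pow_mul] at h1
    exact hb1 (eq_one_of_two_pows (Nat.Coprime.mul_right hcop hcop) hbq h1)
  have hcard : Nat.card (G ⧸ X) = p := by
    refine card_eq_prime_of_noPair_noFrob ?_ hexp hcent ?_ ?_
    · have h1 : (y : G ⧸ X) ≠ 1 := mk_ne_one.mpr hyX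
      have h2 : orderOf (y : G ⧸ X) = p :=
        orderOf_eq_prime (by rw [← QuotientGroup.mk_pow, hyp]; rfl) h1
      exact h2 ▸ orderOf_dvd_natCard _
    · intro q a b hq ha1 ha hb hc
      by_contra hb'
      exact hkill q hq (kill_of_commute hN hq ha ha1 hb hb' hc)
    · intro q s a b hq hs ha1 ha hb hn'
      by_contra hnc
      exact hkill q hq (kill_of_normalises hN hq hs ha ha1 hb hn' hnc)
  refine outcome_hughes hp X (P.ne_top g hg) fun z hz => P.pow_eq_one_of_not_mem hg hz ?_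
  rw [← mk_pow_eq_one, ← hcard]
  exact pow_card_eq_one'

end Comp

end Cfsg.Agent.PartitionGroups45
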