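import Cfsg.Agent.PartitionGroups45.PCore

/-!
# The action on the elementary abelian central part of the `p`-core
-/

set_option autoImplicit false
set_option linter.unusedSectionVars false
set_option linter.style.haveILetI false

namespace Cfsg.Agent.PartitionGroups45

open Subgroup
open scoped IsMulCommutative

variable {G : Type*} [Group G]

/-- The elements of order dividing `p` of the centre of the `p`-core. -/
def omegaCore (p : ℕ) (G : Type*) [Group G] : Subgroup G where
  carrier := {v | v ∈ Cfsg.pCore p G ∧ v ^ p = 1 ∧ ∀ f ∈ Cfsg.pCore p G, Commute v f}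
  one_mem' := ⟨one_mem _, one_pow _, fun f _ => Commute.one_left f⟩
  mul_mem' := fun {a b} ha hb => ⟨mul_mem ha.1 hb.1,
    by rw [(ha.2.2 b hb.1).mul_pow, ha.2.1, hb.2.1, one_mul],
    fun f hf => (ha.2.2 f hf).mul_left (hb.2.2 f hf)⟩
  inv_mem' := fun {a} ha => ⟨inv_mem ha.1, by rw [inv_pow, ha.2.1, inv_one],
    fun f hf => (ha.2.2 f hf).inv_left⟩

theorem omegaCore_le (p : ℕ) : omegaCore p G ≤ Cfsg.pCore p G := fun _ h => h.1

instance omegaCore_normal (p : ℕ) : (omegaCore p G).Normal :=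
  ⟨fun a ha c => by
    have hF := Fitting.pCore_normal (G := G) p
    refine ⟨hF.conj_mem a ha.1 c, by rw [conj_pow, ha.2.1, mul_one, mul_inv_cancel], fun f hf => ?_⟩
    have hf' : c⁻¹ * f * c ∈ Cfsg.pCore p G := by simpa using hF.conj_mem f hf c⁻¹
    have := (ha.2.2 _ hf').map (MulAut.conj c)
    simpa [mul_assoc] using this⟩

instance omegaCore_comm (p : ℕ) : IsMulCommutative (omegaCore p G) :=
  ⟨⟨fun a b => Subtype.ext (a.2.2.2 _ b.2.1).eq⟩⟩

theorem omega_act (p : ℕ) : ∀ n ∈ Cfsg.pCore p G, ∀ v ∈ omegaCore p G, n * v * n⁻¹ = v :=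
  fun n hn v hv => by rw [← (hv.2.2 n hn).eq, mul_inv_cancel_right]

variable [Finite G] {p : ℕ} [hp : Fact p.Prime]

theorem omegaCore_ne_bot (hF : Cfsg.pCore p G ≠ ⊥) : omegaCore p G ≠ ⊥ := by
  haveI := (nontrivial_iff_ne_bot (Cfsg.pCore p G)).mpr hF
  obtain ⟨z, hz, hz1, hzp⟩ := PGroup.exists_mem_pow_eq_one (p := p)
    (Fitting.pCore_isPGroup (G := G) p) (H := center (Cfsg.pCore p G))
    fun e => by
      have := (Fitting.pCore_isPGroup (G := G) p).center_nontrivial
      exact (nontrivial_iff_ne_bot _).mp this e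
  intro e
  refine hz1 (Subtype.ext ((Subgroup.eq_bot_iff_forall _).mp e z ⟨z.2, ?_, fun f hf => ?_⟩))
  · exact congrArg Subtype.val hzp
  · exact (congrArg Subtype.val (mem_center_iff.mp hz ⟨f, hf⟩)).symm

/-- The norm map of an element on `omegaCore`. -/
noncomputable def normHom (y : G) : omegaCore p G →* omegaCore p G :=
  ∏ i ∈ Finset.range p, (MulAut.conjNormal (y ^ i) : omegaCore p G ≃* omegaCore p G).toMonoidHom

theorem mul_pow_normHom (y : G) (z : omegaCore p G) :
    ((z : G) * y) ^ p = (normHom y z : G) * y ^ p := by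
  rw [mul_pow_eq_prod (omegaCore p G) y z p, normHom, MonoidHom.finsetProd_apply]
  rfl

namespace Comp

variable (P : Comp G) (hG : ¬ Outcome G)
include P hG

/-- An element of order `> p` in the coset `Z y` shows that `Z` leaves its component. -/
theorem coset_data {y z₀ : G} (hy : y ∉ Cfsg.pCore p G) (hyp : y ^ p ∈ Cfsg.pCore p G)
    (hz₀ : z₀ ∈ omegaCore p G) (h0 : (z₀ * y) ^ p ≠ 1) :
    (∀ z ∈ omegaCore p G, z ∉ P.comp (z₀ * y) → (z * (z₀ * y)) ^ p = 1) ∧
      ∃ z ∈ omegaCore p G, z ∉ P.comp (z₀ * y) := by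
  set F := Cfsg.pCore p G with hFdef
  set u := z₀ * y with hudef
  have hFp : IsPGroup p F := Fitting.pCore_isPGroup p
  have hu1 : u ≠ 1 := fun e => h0 (by rw [e, one_pow])
  have hmem : ∀ z ∈ omegaCore p G, (z * y) ^ p ∈ F := fun z hz => by
    rw [mul_pow_normHom y ⟨z, hz⟩]
    exact mul_mem (omegaCore_le p (normHom y ⟨z, hz⟩).2) hyp
  have ha : u ^ p ∈ F := hmem z₀ hz₀
  have hau : Commute (u ^ p) u := Commute.pow_self u p
  have hay : Commute (u ^ p) y := by
    have h1 : Commute (u ^ p) z₀ := (hz₀.2.2 _ ha).symm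
    have := h1.inv_right.mul_right hau
    rwa [hudef, inv_mul_cancel_left, ← hudef] at this
  have hnp : ∀ v : G, v ^ p ≠ 1 → v ^ p ∈ F → ¬ (orderOf v).Prime := by
    intro v hv hvF hvp
    obtain ⟨j, hj⟩ := hFp ⟨v ^ p, hvF⟩
    have hj' : v ^ p ^ (j + 1) = 1 := by rw [pow_succ', pow_mul]; exact congrArg Subtype.val hj
    have := (Nat.prime_dvd_prime_iff_eq hvp hp.out).mp
      (hvp.dvd_of_dvd_pow (orderOf_dvd_iff_pow_eq_one.mpr hj'))
    exact hv (by rw [← this]; exact pow_orderOf_eq_one v)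
  refine ⟨fun z hz hzX => by_contra fun h => hzX ?_, ?_⟩
  · have hzz : z * z₀ ∈ omegaCore p G := mul_mem hz hz₀
    have hv : (z * z₀ * y) ^ p ≠ 1 := by rwa [mul_assoc, ← hudef]
    have hv1 : z * z₀ * y ≠ 1 := fun e => hv (by rw [e, one_pow])
    have hc : Commute (z * z₀ * y) (u ^ p) :=
      ((hzz.2.2 _ ha).mul_left hay.symm)
    have h1 : u ^ p ∈ P.comp (z * z₀ * y) :=
      P.mem_of_commute hc hv1 (Or.inl (hnp _ hv (hmem _ hzz)))
    have e : P.comp (z * z₀ * y) = P.comp u :=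
      P.disjoint hv1 hu1 h1 (pow_mem (P.mem u hu1) p) h0
    have h2 := P.mem _ hv1
    rw [e, mul_assoc, ← hudef] at h2
    have := mul_mem h2 (inv_mem (P.mem u hu1))
    rwa [mul_inv_cancel_right] at this
  · by_contra hall
    push Not at hall
    obtain ⟨⟨z, hz⟩, hz1⟩ := Subgroup.ne_bot_iff_exists_ne_one.1
      (omegaCore_ne_bot (p := p) (fun e : F = ⊥ => h0 (Subgroup.mem_bot.mp (e ▸ ha))))
    have hz1' : z ≠ 1 := fun e => hz1 (Subtype.ext e)
    haveI : (P.comp u).Normal := normalizer_eq_top_iff.mp (eq_top_iff.mpr fun x _ =>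
      P.mem_norm_of_conj_mem hu1 (hall z hz) hz1'
        (hall _ (Subgroup.Normal.conj_mem inferInstance z hz x)))
    obtain h | ⟨r, hr, hXr⟩ := P.normal_comp hu1
    · exact hG h
    have hrp : r = p := by
      by_contra hne
      exact hz1' (not_isPGroup_of_two hr hp.out hne hXr (hall z hz) hz.2.1)
    subst hrp
    have huF : u ∈ F := Fitting.le_pCore inferInstance hXr (P.mem u hu1)
    apply hy
    have := mul_mem (inv_mem (omegaCore_le r hz₀)) huF
    rwa [hudef, inv_mul_cancel_left] at this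

/-- For odd `p`, all elements of such a coset have order `p`. -/
theorem coset_pow_eq_one (hp2 : p ≠ 2) {y : G} (hy : y ∉ Cfsg.pCore p G)
    (hyp : y ^ p ∈ Cfsg.pCore p G) {z₀ : G} (hz₀ : z₀ ∈ omegaCore p G) : (z₀ * y) ^ p = 1 := by
  by_contra h0
  obtain ⟨h1, z, hz, hzX⟩ := P.coset_data hG hy hyp hz₀ h0
  have hz2 : z * z ∉ P.comp (z₀ * y) := by
    intro h
    obtain ⟨k, hk⟩ := (hp.out.odd_of_ne_two hp2)
    refine hzX ?_
    have : z = (z * z) ^ (k + 1) := by
      rw [← pow_two, ← pow_mul, show 2 * (k + 1) = p + 1 by omega, pow_succ, hz.2.1, one_mul]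
    rw [this]
    exact pow_mem h _
  have e1 := h1 z hz hzX
  have e2 := h1 (z * z) (mul_mem hz hz) hz2
  set Z := omegaCore p G
  set a : Z := ⟨z, hz⟩
  set b : Z := ⟨z₀, hz₀⟩
  rw [← mul_assoc, show z * z₀ = ((a * b : Z) : G) from rfl, mul_pow_normHom, map_mul,
    Subgroup.coe_mul] at e1
  rw [← mul_assoc, show z * z * z₀ = ((a * a * b : Z) : G) from rfl, mul_pow_normHom, map_mul,
    map_mul, Subgroup.coe_mul, Subgroup.coe_mul, mul_assoc ((normHom y a : Z) : G),
    mul_assoc ((normHom y a : Z) : G), e1, mul_one] at e2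
  rw [e2, one_mul, ← mul_pow_normHom] at e1
  exact h0 e1

/-- For `p = 2`, the map `z ↦ [z, y]` takes at most two values. -/
theorem two_values (hp2 : p = 2) {y : G} (hy : y ∉ Cfsg.pCore p G)
    (hyp : y ^ p ∈ Cfsg.pCore p G) :
    ∃ d : omegaCore p G, ∀ z, normHom y z = 1 ∨ normHom y z = d := by
  set Z := omegaCore p G
  by_cases h : ∀ z : Z, ((z : G) * y) ^ p = 1
  · refine ⟨1, fun z => Or.inr ?_⟩
    have h1 := h z
    have h2 := h 1
    rw [mul_pow_normHom] at h1 h2
    rw [map_one, Subgroup.coe_one, one_mul] at h2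
    rw [h2, mul_one] at h1
    exact Subtype.ext h1
  push Not at h
  obtain ⟨b, hb⟩ := h
  obtain ⟨h1, t, ht, htX⟩ := P.coset_data hG hy hyp b.2 hb
  have key : ∀ a : Z, (a : G) ∉ P.comp ((b : G) * y) →
      (normHom y a : G) * ((normHom y b : G) * y ^ p) = 1 := fun a ha => by
    have := h1 a a.2 ha
    rwa [← mul_assoc, show (a : G) * (b : G) = ((a * b : Z) : G) from rfl, mul_pow_normHom,
      map_mul, Subgroup.coe_mul, mul_assoc] at this
  refine ⟨normHom y ⟨t, ht⟩, fun a => ?_⟩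
  by_cases ha : (a : G) ∈ P.comp ((b : G) * y)
  · left
    have e1 := key ⟨t, ht⟩ htX
    have e2 := key (a * ⟨t, ht⟩) fun h => htX (by
      have := mul_mem (inv_mem ha) h
      rwa [Subgroup.coe_mul, inv_mul_cancel_left] at this)
    rw [map_mul, Subgroup.coe_mul, mul_assoc, e1, mul_one] at e2
    exact Subtype.ext e2
  · right
    exact Subtype.ext (mul_right_cancel ((key a ha).trans (key ⟨t, ht⟩ htX).symm))

end Comp

end Cfsg.Agent.PartitionGroups45
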