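import Cfsg.Agent.PartitionGroups45.NormalComp
import Cfsg.Agent.Lib.Coprime.Action
import Cfsg.Agent.Lib.Fitting

/-!
# Partitioned groups with a nontrivial `p`-core: first reductions
-/

set_option autoImplicit false
set_option linter.unusedSectionVars false
set_option linter.style.haveILetI false

namespace Cfsg.Agent.PartitionGroups45

open Subgroup
open scoped IsMulCommutative

variable {G : Type*} [Group G] [Finite G]

/-- Either a `p`-element or with a power of prime order different from `p`. -/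
theorem pow_or_prime {p : ℕ} (hp : p.Prime) (g : G) :
    (∃ k, g ^ p ^ k = 1) ∨ ∃ i q, q.Prime ∧ q ≠ p ∧ orderOf (g ^ i) = q := by
  obtain ⟨j, m, hm, hjm⟩ :=
    Nat.exists_eq_pow_mul_and_not_dvd (orderOf_pos g).ne' p hp.ne_one
  by_cases h1 : m = 1
  · exact Or.inl ⟨j, by rw [← orderOf_dvd_iff_pow_eq_one, hjm, h1, mul_one]⟩
  obtain ⟨q, hq, hqm⟩ := Nat.exists_prime_and_dvd h1
  exact Or.inr ⟨_, q, hq, fun e => hm (e ▸ hqm),
    orderOf_pow_orderOf_div (orderOf_pos g).ne' (hjm ▸ hqm.trans (Dvd.intro_left _ rfl))⟩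

namespace Comp

variable (P : Comp G) (hG : ¬ Outcome G) {p : ℕ} [hp : Fact p.Prime]
include P

theorem not_isPGroup (hF : Cfsg.pCore p G ≠ ⊥) : ¬ Outcome G → ¬ IsPGroup p G := by
  intro hG hGp
  haveI : Nontrivial G := by
    obtain ⟨⟨x, hx⟩, hx1⟩ := Subgroup.ne_bot_iff_exists_ne_one.1 hF
    exact nontrivial_of_ne x 1 fun e => hx1 (Subtype.ext e)
  obtain ⟨⟨z, hz⟩, hzo⟩ := exists_prime_orderOf_dvd_card' (G := center G) p
    (PGroup.dvd_card_center hGp)
  rw [Subgroup.orderOf_mk] at hzo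
  have hz1 : z ≠ 1 := fun e => hp.out.ne_one (by rw [← hzo, e, orderOf_one])
  refine hG (outcome_hughes hp.out _ (P.ne_top z hz1) fun g hg => ?_)
  obtain ⟨r, -, e1, e2⟩ := P.orderOf_of_commute (x := z) (y := g)
    ((mem_center_iff.mp hz g).symm) hz1 hg
  rw [← orderOf_dvd_iff_pow_eq_one, e2, ← e1, hzo]

include hG

/-- Components of elements of order prime to `p` meet the `p`-core trivially. -/
theorem pCore_inf_comp {w : G} {q : ℕ} (hq : q.Prime) (hqp : q ≠ p) (hw : orderOf w = q) {f : G}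
    (hf : f ∈ Cfsg.pCore p G) (hfW : f ∈ P.comp w) : f = 1 := by
  by_contra hf1
  set F := Cfsg.pCore p G with hFdef
  set W := P.comp w with hWdef
  have hw1 : w ≠ 1 := fun e => hq.ne_one (by rw [← hw, e, orderOf_one])
  have hFp : IsPGroup p F := Fitting.pCore_isPGroup p
  have hFn : F.Normal := Fitting.pCore_normal p
  have hwW : w ∈ W := P.mem w hw1
  set K := F ⊓ W with hK
  have hcomm : ∀ f ∈ F, ∀ k, k ∈ K → f * k * f⁻¹ ∈ K → k ≠ 1 → f ∈ W := by
    intro f hfF k hk hkc hk1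
    have hfN : f ∈ normalizer (W : Set G) :=
      P.mem_norm_of_conj_mem hw1 hk.2 hk1 hkc.2
    have hA : zpowers w ≤ normalizer (K : Set G) := by
      rw [zpowers_le]
      refine Subgroup.mem_normalizer_iff.mpr fun x => ⟨fun hx => ⟨hFn.conj_mem x hx.1 w,
        W.mul_mem (W.mul_mem hwW hx.2) (W.inv_mem hwW)⟩, fun hx => ⟨?_, ?_⟩⟩
      · simpa [mul_assoc] using hFn.conj_mem _ hx.1 w⁻¹
      · simpa [mul_assoc] using mul_mem (mul_mem (inv_mem hwW) hx.2) hwW
    have hcop : (Nat.card (zpowers w)).Coprime (Nat.card K) := by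
      obtain ⟨n, hn⟩ := (hFp.to_le (inf_le_left : K ≤ F)).exists_card_eq
      rw [Nat.card_zpowers, hw, hn]
      exact Nat.Coprime.pow_right n ((Nat.coprime_primes hq hp.out).mpr hqp)
    obtain ⟨n, hn, hc⟩ := Coprime.exists_fixed_in_coset (zpowers w) K hA hcop
      (Or.inl inferInstance) f fun a ha => by
        have haW : a ∈ W := zpowers_le.mpr hwW ha
        refine ⟨F.mul_mem (F.inv_mem hfF) (hFn.conj_mem f hfF a), ?_⟩
        have h1 := (Subgroup.mem_normalizer_iff.mp (inv_mem hfN) a).mp haW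
        simpa [mul_assoc] using mul_mem h1 (inv_mem haW)
    have hm : f * n ∈ F := mul_mem hfF hn.1
    have hW' : f * n ∈ W := by
      by_cases h1 : f * n = 1
      · rw [h1]; exact one_mem _
      · refine P.mem_of_commute (Subgroup.mem_centralizer_iff.mp hc w (mem_zpowers w)) hw1
          (Or.inr fun e => h1 ?_)
        exact not_isPGroup_of_two hp.out hq hqp.symm hFp hm
          (orderOf_dvd_iff_pow_eq_one.mp (by rw [e, hw]))
    simpa using mul_mem hW' (inv_mem hn.2)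
  have hle : F ≤ W := by
    by_contra hnle
    have hne : K.subgroupOf F ≠ ⊤ := fun e => hnle fun x hx =>
      (subgroupOf_eq_top.mp e hx).2
    obtain ⟨⟨x, hxF⟩, hx, hxK⟩ := SetLike.exists_of_lt (PGroup.lt_normalizer hFp hne)
    refine hxK ⟨hxF, hcomm x hxF f ⟨hf, hfW⟩ ?_ hf1⟩
    exact (Subgroup.mem_normalizer_iff.mp hx ⟨f, hf⟩).mp ⟨hf, hfW⟩
  haveI : W.Normal := normalizer_eq_top_iff.mp (eq_top_iff.mpr fun x _ =>
    P.mem_norm_of_conj_mem hw1 (hle hf) hf1 (hle (hFn.conj_mem f hf x)))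
  obtain h | ⟨r, hr, hWr⟩ := P.normal_comp hw1
  · exact hG h
  obtain ⟨k, hk⟩ := hFp ⟨f, hf⟩
  have hk' : f ^ p ^ k = 1 := congrArg Subtype.val hk
  by_cases hrp : r = p
  · exact hw1 (not_isPGroup_of_two hr hq (hrp ▸ hqp.symm) hWr hwW (hw ▸ pow_orderOf_eq_one w))
  · obtain ⟨j, hj⟩ := hWr ⟨f, hle hf⟩
    exact hf1 (eq_one_of_two_pows (Nat.Coprime.pow j k ((Nat.coprime_primes hr hp.out).mpr hrp))
      (congrArg Subtype.val hj) hk')

theorem not_commute {w f : G} {q : ℕ} (hq : q.Prime) (hqp : q ≠ p) (hw : orderOf w = q)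
    (hf : f ∈ Cfsg.pCore p G) (hf1 : f ≠ 1) : ¬ Commute w f := by
  intro h
  have hw1 : w ≠ 1 := fun e => hq.ne_one (by rw [← hw, e, orderOf_one])
  refine hf1 (P.pCore_inf_comp hG hq hqp hw hf (P.mem_of_commute h hw1 (Or.inr fun e => hf1 ?_)))
  exact not_isPGroup_of_two hp.out hq hqp.symm (Fitting.pCore_isPGroup p) hf
    (orderOf_dvd_iff_pow_eq_one.mp (by rw [e, hw]))

/-- The elements centralising a nontrivial element of the `p`-core are `p`-elements. -/
theorem pow_eq_one_of_commute {g f : G} (hf : f ∈ Cfsg.pCore p G) (hf1 : f ≠ 1)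
    (h : Commute g f) : ∃ k, g ^ p ^ k = 1 := by
  rcases pow_or_prime hp.out g with h' | ⟨i, q, hq, hqp, ho⟩
  · exact h'
  · exact absurd (h.pow_left i) (P.not_commute hG hq hqp ho hf hf1)

/-- The centraliser of a nontrivial normal subgroup of the `p`-core is contained in it. -/
theorem centralizer_le_pCore {Z : Subgroup G} [Z.Normal] (hZ : Z ≤ Cfsg.pCore p G) (hZ1 : Z ≠ ⊥) :
    centralizer (Z : Set G) ≤ Cfsg.pCore p G := by
  obtain ⟨⟨f, hf⟩, hf1⟩ := Subgroup.ne_bot_iff_exists_ne_one.1 hZ1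
  refine Fitting.le_pCore inferInstance fun ⟨g, hg⟩ => ?_
  obtain ⟨k, hk⟩ := P.pow_eq_one_of_commute hG (hZ hf) (fun e => hf1 (Subtype.ext e))
    (Subgroup.mem_centralizer_iff.mp hg f hf).symm
  exact ⟨k, Subtype.ext hk⟩

theorem dvd_index (hF : Cfsg.pCore p G ≠ ⊥) : p ∣ (Cfsg.pCore p G).index := by
  by_contra hnd
  set F := Cfsg.pCore p G
  have hFp : IsPGroup p F := Fitting.pCore_isPGroup p
  obtain ⟨n, hn⟩ := hFp.exists_card_eq
  obtain ⟨H, hH⟩ := exists_right_complement'_of_coprime (N := F) (by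
    rw [hn]; exact Nat.Coprime.pow_left n (hp.out.coprime_iff_not_dvd.mpr hnd))
  refine hG (Or.inr ⟨H, Frobenius.isFrobeniusComplement_of_fixedPointFree hH hF ?_ ?_⟩)
  · intro e
    rw [e, isComplement'_bot_right] at hH
    refine P.not_isPGroup hF hG ?_
    rw [hH] at hFp
    exact hFp.of_equiv Subgroup.topEquiv
  · intro y hy hy1
    rw [Subgroup.eq_bot_iff_forall]
    rintro x ⟨hx, hxy⟩
    by_contra hx1
    obtain ⟨k, hk⟩ := P.pow_eq_one_of_commute hG hx hx1
      (mem_centralizer_singleton_iff.mp hxy).symm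
    have h2 : y ^ Nat.card H = 1 := orderOf_dvd_iff_pow_eq_one.mp (Subgroup.orderOf_dvd_natCard H hy)
    refine hy1 (eq_one_of_two_pows (Nat.Coprime.pow_left k (hp.out.coprime_iff_not_dvd.mpr ?_)) hk h2)
    rwa [← hH.symm.index_eq_card]

/-- The centraliser of an element of order `p` of `G ⧸ O_p(G)` is a `p`-group. -/
theorem quot_cent (hF : Cfsg.pCore p G ≠ ⊥) (a b : G ⧸ Cfsg.pCore p G) (q : ℕ) (hq : q.Prime)
    (hqp : q ≠ p) (ha1 : a ≠ 1) (hap : a ^ p = 1) (hbq : b ^ q = 1) (hc : Commute a b) : b = 1 := by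
  by_contra hb1
  obtain ⟨g, rfl⟩ : ∃ g : G, (g : G ⧸ Cfsg.pCore p G) = b := QuotientGroup.mk_surjective b
  obtain ⟨y, rfl⟩ : ∃ y : G, (y : G ⧸ Cfsg.pCore p G) = a := QuotientGroup.mk_surjective a
  set F := Cfsg.pCore p G
  have hFp : IsPGroup p F := Fitting.pCore_isPGroup p
  have hcop : q.Coprime p := (Nat.coprime_primes hq hp.out).mpr hqp
  obtain ⟨k, hk⟩ := hFp ⟨g ^ q, mk_pow_eq_one.mp hbq⟩
  set w := g ^ p ^ k with hwdef
  have hwq : w ^ q = 1 := by
    rw [hwdef, ← pow_mul, mul_comm, pow_mul]; exact congrArg Subtype.val hk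
  have hwne : (w : G ⧸ F) ≠ 1 := fun e =>
    hb1 (eq_one_of_two_pows (Nat.Coprime.pow_right k hcop) hbq (by rwa [← QuotientGroup.mk_pow]))
  have hw1 : w ≠ 1 := fun e => hwne (by rw [e]; rfl)
  have hwo : orderOf w = q := by haveI := Fact.mk hq; exact orderOf_eq_prime hwq hw1
  obtain ⟨n, hn, hcen⟩ := Coprime.exists_fixed_in_coset (zpowers w) F
    (by rw [zpowers_le, Subgroup.normalizer_eq_top]; exact mem_top w)
    (by
      obtain ⟨j, hj⟩ := hFp.exists_card_eq
      rw [Nat.card_zpowers, hwo, hj]; exact Nat.Coprime.pow_right j hcop)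
    (Or.inl inferInstance) y fun x hx => by
      obtain ⟨j, rfl⟩ := mem_zpowers_iff.mp hx
      rw [← QuotientGroup.eq_one_iff]
      simp only [QuotientGroup.mk_mul, QuotientGroup.mk_inv, QuotientGroup.mk_zpow]
      have h1 : Commute (y : G ⧸ F) ((w : G ⧸ F) ^ j) := by
        rw [hwdef, QuotientGroup.mk_pow]; exact (hc.pow_right _).zpow_right j
      rw [← h1.eq, mul_inv_cancel_right, inv_mul_cancel]
  set y' := y * n with hy'
  have hy'F : y' ∉ F := fun h => (mk_ne_one.mp ha1) (by simpa [hy'] using mul_mem h (inv_mem hn))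
  have hy'1 : y' ≠ 1 := fun e => hy'F (e ▸ one_mem _)
  have hy'p : y' ^ p ∈ F := by
    rw [← mk_pow_eq_one, hy', QuotientGroup.mk_mul, (QuotientGroup.eq_one_iff n).mpr hn, mul_one,
      hap]
  obtain ⟨j, hj⟩ := hFp ⟨y' ^ p, hy'p⟩
  have hy'pow : y' ^ p ^ (j + 1) = 1 := by
    rw [pow_succ', pow_mul]; exact congrArg Subtype.val hj
  have hcw : Commute y' w := (Subgroup.mem_centralizer_iff.mp hcen w (mem_zpowers w)).symm
  have hwW : w ∈ P.comp y' := P.mem_of_commute hcw hy'1 (Or.inr fun e => by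
    rw [hwo] at e
    exact hy'1 (eq_one_of_two_pows (Nat.Coprime.pow_right (j + 1) hcop)
      (orderOf_dvd_iff_pow_eq_one.mp e.symm.dvd) hy'pow))
  obtain ⟨f, hf, hf1, hfc⟩ := exists_commute_ne_one hFp hF (z := y')
    (by rw [Subgroup.normalizer_eq_top]; exact mem_top y') hy'pow
  have eW : P.comp w = P.comp y' := P.eq_of_mem y' w hy'1 hwW hw1
  have hnot : f * w ∉ P.comp y' := fun h => hf1 (P.pCore_inf_comp hG hq hqp hwo hf (by
    rw [eW]
    have h' := mul_mem h (inv_mem hwW)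
    rwa [mul_inv_cancel_right] at h'))
  obtain ⟨r, hr, e1, e2⟩ := P.orderOf_of_commute (hfc.mul_right hcw) hy'1 hnot
  have hrp : r = p := (Nat.prime_dvd_prime_iff_eq hr hp.out).mp
    (hr.dvd_of_dvd_pow (e1 ▸ orderOf_dvd_iff_pow_eq_one.mpr hy'pow))
  have h0 : (f * w) ^ p = 1 := orderOf_dvd_iff_pow_eq_one.mp (by rw [e2, hrp])
  have h1 := congrArg (fun x : G => (x : G ⧸ F)) h0
  simp only [QuotientGroup.mk_pow, QuotientGroup.mk_mul, QuotientGroup.mk_one,
    (QuotientGroup.eq_one_iff f).mpr hf, one_mul] at h1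
  exact hwne (eq_one_of_two_pows hcop (by rw [← QuotientGroup.mk_pow, hwq]; rfl) h1)

end Comp

end Cfsg.Agent.PartitionGroups45
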