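import Cfsg.Agent.PartitionGroups45.Omega
import Cfsg.Agent.S0205

/-!
# The `p`-core is a `2`-group
-/

set_option autoImplicit false
set_option linter.unusedSectionVars false
set_option linter.style.haveILetI false

namespace Cfsg.Agent.PartitionGroups45

open Subgroup
open scoped IsMulCommutative

variable {G : Type*} [Group G] [Finite G] {p : ℕ} [hp : Fact p.Prime]

namespace Comp

variable (P : Comp G) (hG : ¬ Outcome G)
include P hG

theorem pow_p_of_quot {g : G} {k : ℕ} (h : g ^ p ^ k ∈ Cfsg.pCore p G) : ∃ j, g ^ p ^ j = 1 := by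
  obtain ⟨j, hj⟩ := Fitting.pCore_isPGroup (G := G) p ⟨_, h⟩
  exact ⟨k + j, by rw [pow_add, pow_mul]; exact congrArg Subtype.val hj⟩

/-- For odd `p` every element of prime order of the quotient has norm zero. -/
theorem normZero_omega (hp2 : p ≠ 2) :
    NormZero (quotEnd (Cfsg.pCore p G) (omegaCore p G) (omega_act p)) := by
  refine normZero_quotEnd _ _ _ fun g r hr hg hgr => ?_
  by_cases hrp : r = p
  · subst hrp
    refine sum_actEnd_eq_zero _ fun v hv => ?_
    rw [P.coset_pow_eq_one hG hp2 hg hgr hv]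
    have := P.coset_pow_eq_one hG hp2 hg hgr (one_mem (omegaCore r G))
    rwa [one_mul, eq_comm] at this
  · set Z := omegaCore p G
    set s : AddMonoid.End (Additive Z) := ∑ i ∈ Finset.range r, actEnd Z (g ^ i)
    have hfr : actEnd Z (g ^ r) = 1 := actEnd_eq_one Z fun v hv => omega_act p _ hgr v hv
    have hs : actEnd Z g * s = s := by
      have h1 : ∑ i ∈ Finset.range r, actEnd Z (g ^ (i + 1)) =
          ∑ i ∈ Finset.range r, actEnd Z (g ^ i) := by
        have e1 := Finset.sum_range_succ' (fun i => actEnd Z (g ^ i)) r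
        rw [Finset.sum_range_succ, hfr, pow_zero, map_one] at e1
        exact (add_right_cancel e1).symm
      conv_rhs => rw [show s = ∑ i ∈ Finset.range r, actEnd Z (g ^ (i + 1)) from h1.symm]
      rw [Finset.mul_sum]
      simp only [← map_mul, ← pow_succ']
    refine AddMonoidHom.ext fun v => ?_
    by_contra hne
    set x : Z := Additive.toMul (s v) with hx
    have hx1 : (x : G) ≠ 1 := fun e => hne (Additive.toMul.injective (Subtype.ext e))
    have hfix : g * x * g⁻¹ = x := by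
      have := congrArg (fun f : AddMonoid.End (Additive Z) => ((Additive.toMul (f v) : Z) : G)) hs
      exact this
    obtain ⟨k, hk⟩ := P.pow_eq_one_of_commute hG x.2.1 hx1 (g := g) (mul_inv_eq_iff_eq_mul.mp hfix)
    refine hg ((QuotientGroup.eq_one_iff g).mp (eq_one_of_two_pows
      (Nat.Coprime.pow_left k ((Nat.coprime_primes hp.out hr).mpr (Ne.symm hrp))) ?_
      (mk_pow_eq_one.mpr hgr)))
    rw [← QuotientGroup.mk_pow, hk]; rfl

theorem eq_two (hF : Cfsg.pCore p G ≠ ⊥) : p = 2 := by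
  by_contra hp2
  set F := Cfsg.pCore p G
  have hFp : IsPGroup p F := Fitting.pCore_isPGroup p
  set Z := omegaCore p G
  have hZ : Z ≠ ⊥ := omegaCore_ne_bot hF
  have hCZ : centralizer (Z : Set G) ≤ F := P.centralizer_le_pCore hG (omegaCore_le p) hZ
  haveI : Fact (Nat.Prime 2) := ⟨Nat.prime_two⟩
  obtain ⟨a, ha⟩ := exists_prime_orderOf_dvd_card' (G := G ⧸ F) p (P.dvd_index hG hF)
  have ha1 : a ≠ 1 := fun e => hp.out.ne_one (by rw [← ha, e, orderOf_one])
  have hap : a ^ p = 1 := orderOf_dvd_iff_pow_eq_one.mp ha.dvd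
  have hodd : Odd (Nat.card (G ⧸ F)) := by
    refine Nat.not_even_iff_odd.mp fun he => ?_
    obtain ⟨t, ht⟩ := exists_prime_orderOf_dvd_card' (G := G) 2
      (he.two_dvd.trans (Dvd.intro _ (Subgroup.card_eq_card_quotient_mul_card_subgroup F).symm))
    have ht1 : t ≠ 1 := fun e => by rw [e, orderOf_one] at ht; omega
    have htt : t * t = 1 := by rw [← pow_two, ← ht, pow_orderOf_eq_one]
    have hinv : ∀ s : G, orderOf s = 2 → ∀ v ∈ Z, s * v * s⁻¹ = v⁻¹ := by
      intro s hs v hv
      have hss : s * s = 1 := by rw [← pow_two, ← hs, pow_orderOf_eq_one]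
      have hsv : s * v * s⁻¹ ∈ Z := Subgroup.Normal.conj_mem inferInstance v hv s
      set x := v * (s * v * s⁻¹)
      by_contra hne
      have hx1 : x ≠ 1 := fun e => hne (eq_inv_of_mul_eq_one_right e)
      have hfix : s * x * s⁻¹ = x := by
        have hc : Commute v (s * v * s⁻¹) := hv.2.2 _ hsv.1
        show s * (v * (s * v * s⁻¹)) * s⁻¹ = v * (s * v * s⁻¹)
        calc s * (v * (s * v * s⁻¹)) * s⁻¹
            = (s * v * s⁻¹) * ((s * s) * v * (s * s)⁻¹) := by group
          _ = (s * v * s⁻¹) * v := by rw [hss]; group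
          _ = _ := hc.eq.symm
      exact P.not_commute hG Nat.prime_two (Ne.symm hp2) hs (mul_mem hv hsv).1 hx1
        (mul_inv_eq_iff_eq_mul.mp hfix)
    have hcen : ∀ g : G, Commute ((g : G) : G ⧸ F) (t : G ⧸ F) := by
      intro g
      have hs : orderOf (g * t * g⁻¹) = 2 := by
        rw [← MulAut.conj_apply, MulEquiv.orderOf_eq, ht]
      have hm : g * t * g⁻¹ * t ∈ F := hCZ (Subgroup.mem_centralizer_iff.mpr fun v hv => by
        have h1 := hinv t ht v hv
        have h2 := hinv _ hs v⁻¹ (inv_mem hv)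
        have h3 : (g * t * g⁻¹) * t * v * ((g * t * g⁻¹) * t)⁻¹ = v := by
          calc (g * t * g⁻¹) * t * v * ((g * t * g⁻¹) * t)⁻¹
              = (g * t * g⁻¹) * (t * v * t⁻¹) * (g * t * g⁻¹)⁻¹ := by group
            _ = v := by rw [h1, h2, inv_inv]
        exact (mul_inv_eq_iff_eq_mul.mp h3).symm)
      have h1 := (QuotientGroup.eq_one_iff _).mpr hm
      simp only [QuotientGroup.mk_mul, QuotientGroup.mk_inv] at h1
      have h2 : (g : G ⧸ F) * t * (g : G ⧸ F)⁻¹ = (t : G ⧸ F) := by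
        rw [eq_inv_of_mul_eq_one_left h1, ← QuotientGroup.mk_inv, inv_eq_of_mul_eq_one_left htt]
      exact mul_inv_eq_iff_eq_mul.mp h2
    obtain ⟨g, rfl⟩ : ∃ g : G, (g : G ⧸ F) = a := QuotientGroup.mk_surjective a
    have htF : t ∈ F := (QuotientGroup.eq_one_iff t).mp
      (P.quot_cent hG hF _ _ 2 Nat.prime_two (Ne.symm hp2) ha1 hap
        (by rw [← QuotientGroup.mk_pow, pow_two, htt]; rfl) (hcen g))
    exact ht1 (not_isPGroup_of_two hp.out Nat.prime_two hp2 hFp htF (by rwa [pow_two]))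
  haveI := Cfsg.Agent.S0205.result hodd
  haveI : Nontrivial (G ⧸ F) := nontrivial_of_ne a 1 ha1
  obtain ⟨N, q, hNn, hN1, -, hq, hNq, hNc, hNexp, -⟩ :=
    Solvable.exists_minimal_normal_elementary (G ⧸ F)
  have hqp : q ≠ p := by
    rintro rfl
    refine hN1 ((Subgroup.eq_bot_iff_forall N).mpr fun x hx => ?_)
    obtain ⟨g, rfl⟩ := QuotientGroup.mk_surjective x
    refine (QuotientGroup.eq_one_iff g).mpr ((Fitting.le_pCore (N := N.comap (QuotientGroup.mk' F))
      inferInstance fun ⟨u, hu⟩ => ?_) (show g ∈ N.comap (QuotientGroup.mk' F) from hx))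
    obtain ⟨k, hk⟩ := P.pow_p_of_quot hG (g := u) (k := 1)
      (by rw [pow_one]; exact mk_pow_eq_one.mp (hNexp _ hu))
    exact ⟨k, Subtype.ext hk⟩
  set ρ := quotEnd F Z (omega_act p)
  have hN0 := P.normZero_omega hG hp2
  have hkill : (q : AddMonoid.End (Additive Z)) ≠ 0 := fun h0 => by
    obtain ⟨⟨z, hz⟩, hz1⟩ := Subgroup.ne_bot_iff_exists_ne_one.1 hZ
    exact hz1 (Subtype.ext (eq_one_of_two_pows ((Nat.coprime_primes hq hp.out).mpr hqp)
      (pow_eq_one_of_natCast_eq_zero Z h0 z hz) hz.2.1))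
  obtain ⟨⟨b, hb⟩, hb1⟩ := Subgroup.ne_bot_iff_exists_ne_one.1 hN1
  have hb1' : b ≠ 1 := fun e => hb1 (Subtype.ext e)
  have hmem : a * b * a⁻¹ ∈ zpowers b := by
    by_contra hno
    have hc : a * b * a⁻¹ ∈ N := hNn.conj_mem b hb a
    exact hkill (kill_of_commute hN0 hq (hNexp b hb) hb1' (hNexp _ hc) hno
      (congrArg Subtype.val (mul_comm (⟨b, hb⟩ : N) ⟨_, hc⟩)))
  by_cases hc : Commute b a
  · exact hb1' (P.quot_cent hG hF a b q hq hqp ha1 hap (hNexp b hb) hc.symm)
  · exact hkill (kill_of_normalises hN0 hq hp.out (hNexp b hb) hb1' hap hmem hc)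

end Comp

end Cfsg.Agent.PartitionGroups45
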