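import Cfsg.Agent.PartitionGroups45.PCoreOdd
import Cfsg.Agent.Lib.Involution.Dihedral
import Cfsg.Agent.Lib.Involution.BaerSuzuki

/-!
# A partitioned group with a nontrivial `2`-core is the symmetric group of degree four
-/

set_option autoImplicit false
set_option linter.unusedSectionVars false
set_option linter.style.haveILetI false

namespace Cfsg.Agent.PartitionGroups45

open Subgroup
open scoped IsMulCommutative

variable {G : Type*} [Group G] [Finite G]

theorem normHom_two [hp : Fact (Nat.Prime 2)] (y : G) (z : omegaCore 2 G) :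
    (normHom y z : G) = z * (y * z * y⁻¹) := by
  rw [normHom, MonoidHom.finsetProd_apply, Finset.prod_range_succ, Finset.prod_range_succ,
    Finset.prod_range_zero, one_mul, Subgroup.coe_mul]
  simp

/-- An involution outside the `2`-core has a conjugate with product of non-`2`-power order. -/
theorem exists_pair [hp : Fact (Nat.Prime 2)] {Q : Type*} [Group Q] [Finite Q] {x : Q}
    (hx2 : x ^ 2 = 1) (hx1 : x ≠ 1)
    (hcore : ∀ N : Subgroup Q, N.Normal → IsPGroup 2 N → N = ⊥) :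
    ∃ g : Q, ∀ k, (x * (g * x * g⁻¹)) ^ 2 ^ k ≠ 1 := by
  by_contra hne
  push Not at hne
  have key : ∀ g : Q, IsPGroup 2 (closure ({x, g * x * g⁻¹} : Set Q)) := by
    intro g
    obtain ⟨k, hk⟩ := hne g
    set y := g * x * g⁻¹ with hydef
    have hy2 : y * y = 1 := by
      rw [hydef, ← pow_two, conj_pow, hx2, mul_one, mul_inv_cancel]
    have hxx : x * x = 1 := by rwa [← pow_two]
    have hR : IsPGroup 2 (zpowers (x * y)) := fun ⟨u, hu⟩ => by
      obtain ⟨j, rfl⟩ := mem_zpowers_iff.mp hu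
      refine ⟨k, Subtype.ext ?_⟩
      show ((x * y) ^ j) ^ 2 ^ k = 1
      rw [← zpow_natCast, ← zpow_mul, mul_comm, zpow_mul, zpow_natCast, hk, one_zpow]
    have hX : IsPGroup 2 (zpowers x) := fun ⟨u, hu⟩ => by
      obtain ⟨j, rfl⟩ := mem_zpowers_iff.mp hu
      refine ⟨1, Subtype.ext ?_⟩
      show (x ^ j) ^ 2 ^ 1 = 1
      rw [← zpow_natCast, ← zpow_mul, mul_comm, zpow_mul, zpow_natCast, pow_one, hx2, one_zpow]
    have hn : zpowers x ≤ normalizer (zpowers (x * y) : Set Q) := by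
      rw [zpowers_le]
      have hxi : x⁻¹ = x := inv_eq_of_mul_eq_one_left hxx
      have hyi : y⁻¹ = y := inv_eq_of_mul_eq_one_left hy2
      have hinv : x * (x * y) * x⁻¹ = (x * y)⁻¹ := by
        rw [mul_inv_rev, hxi, hyi, ← mul_assoc x x, hxx, one_mul]
      refine Subgroup.mem_normalizer_iff.mpr fun u => ⟨fun hu => ?_, fun hu => ?_⟩
      · obtain ⟨j, rfl⟩ := mem_zpowers_iff.mp hu
        rw [← conj_zpow, hinv]
        exact zpow_mem (inv_mem (mem_zpowers _)) j
      · obtain ⟨j, hj⟩ := mem_zpowers_iff.mp hu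
        have e : u = x * (x * y) ^ j * x⁻¹ := by
          rw [hj, hxi, ← mul_assoc, ← mul_assoc, hxx, one_mul, mul_assoc, hxx, mul_one]
        rw [e, ← conj_zpow, hinv]
        exact zpow_mem (inv_mem (mem_zpowers _)) j
    refine (hR.to_sup_of_normal_left' hX hn).to_le ((closure_le _).mpr ?_)
    rintro u (rfl | rfl)
    · exact mem_sup_right (mem_zpowers u)
    · have h := mul_mem (mem_sup_right (S := zpowers (x * y)) (mem_zpowers x))
        (mem_sup_left (T := zpowers x) (mem_zpowers (x * y)))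
      have e : x * (x * y) = y := by rw [← mul_assoc, hxx, one_mul]
      rw [e] at h
      exact h
  obtain ⟨N, hN, hNp, hxN⟩ := Involution.baerSuzuki x key
  exact hx1 (by simpa [hcore N hN hNp] using hxN)

namespace Comp

variable (P : Comp G) (hG : ¬ Outcome G) [hp : Fact (Nat.Prime 2)]
include P hG

theorem quot_core (N : Subgroup (G ⧸ Cfsg.pCore 2 G)) (hN : N.Normal) (hNp : IsPGroup 2 N) :
    N = ⊥ := by
  refine (Subgroup.eq_bot_iff_forall N).mpr fun x hx => ?_
  obtain ⟨g, rfl⟩ := QuotientGroup.mk_surjective x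
  refine (QuotientGroup.eq_one_iff g).mpr ((Fitting.le_pCore
    (N := N.comap (QuotientGroup.mk' (Cfsg.pCore 2 G))) inferInstance fun ⟨u, hu⟩ => ?_)
    (show g ∈ N.comap (QuotientGroup.mk' (Cfsg.pCore 2 G)) from hx))
  obtain ⟨k, hk⟩ := hNp ⟨_, hu⟩
  obtain ⟨j, hj⟩ := P.pow_p_of_quot hG (g := u) (k := k)
    (mk_pow_eq_one.mp (congrArg Subtype.val hk))
  exact ⟨j, Subtype.ext hj⟩

/-- The two lifted involutions. -/
theorem exists_two_lifts (hF : Cfsg.pCore 2 G ≠ ⊥) :
    ∃ y₁ y₂ : G, y₁ ∉ Cfsg.pCore 2 G ∧ y₁ ^ 2 ∈ Cfsg.pCore 2 G ∧ y₂ ∉ Cfsg.pCore 2 G ∧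
      y₂ ^ 2 ∈ Cfsg.pCore 2 G ∧ ∀ k, (y₁ * y₂) ^ 2 ^ k ∉ Cfsg.pCore 2 G := by
  set F := Cfsg.pCore 2 G
  obtain ⟨a, ha⟩ := exists_prime_orderOf_dvd_card' (G := G ⧸ F) 2 (P.dvd_index hG hF)
  have ha1 : a ≠ 1 := fun e => by rw [e, orderOf_one] at ha; omega
  obtain ⟨g, hg⟩ := exists_pair (orderOf_dvd_iff_pow_eq_one.mp ha.dvd) ha1 (P.quot_core hG)
  obtain ⟨y, rfl⟩ := QuotientGroup.mk_surjective a
  obtain ⟨c, rfl⟩ := QuotientGroup.mk_surjective g
  have hy : y ^ 2 ∈ F := mk_pow_eq_one.mp (orderOf_dvd_iff_pow_eq_one.mp ha.dvd)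
  refine ⟨y, c * y * c⁻¹, mk_ne_one.mp ha1, hy, fun h => mk_ne_one.mp ha1 ?_, ?_, fun k h => hg k ?_⟩
  · have := (Fitting.pCore_normal (G := G) 2).conj_mem _ h c⁻¹
    simpa [mul_assoc] using this
  · rw [conj_pow]; exact (Fitting.pCore_normal (G := G) 2).conj_mem _ hy c
  · have := mk_pow_eq_one.mpr h
    simpa using this

theorem card_omega (hF : Cfsg.pCore 2 G ≠ ⊥) : Nat.card (omegaCore 2 G) = 4 := by
  classical
  obtain ⟨y₁, y₂, h1, h1', h2, h2', hw⟩ := P.exists_two_lifts hG hF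
  set Z := omegaCore 2 G
  obtain ⟨d₁, hd₁⟩ := P.two_values hG rfl h1 h1'
  obtain ⟨d₂, hd₂⟩ := P.two_values hG rfl h2 h2'
  have hker : ∀ (y : G) (z : Z), normHom y z = 1 → Commute y (z : G) := by
    intro y z h
    have := congrArg Subtype.val h
    rw [normHom_two, Subgroup.coe_one, mul_eq_one_iff_inv_eq] at this
    have hz : (z : G)⁻¹ = z := inv_eq_of_mul_eq_one_left (by rw [← pow_two]; exact z.2.2.1)
    exact mul_inv_eq_iff_eq_mul.mp (this.symm.trans hz)
  have hfix : ∀ z : Z, normHom y₁ z = 1 → normHom y₂ z = 1 → z = 1 := by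
    intro z e1 e2
    by_contra hne
    obtain ⟨k, hk⟩ := P.pow_eq_one_of_commute hG z.2.1 (fun e => hne (Subtype.ext e))
      ((hker _ z e1).mul_left (hker _ z e2))
    exact hw k (hk ▸ one_mem _)
  let φ : Z →* Z × Z := (normHom y₁).prod (normHom y₂)
  have hφ : Function.Injective φ := (injective_iff_map_eq_one φ).mpr fun z hz =>
    hfix z (congrArg Prod.fst hz) (congrArg Prod.snd hz)
  have hle : Nat.card Z ≤ 4 := by
    let S : Set (Z × Z) := {1, d₁} ×ˢ {1, d₂}
    have h0 : ∀ z, φ z ∈ S := fun z => ⟨by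
      simp only [Set.mem_insert_iff, Set.mem_singleton_iff]; exact hd₁ z, by
      simp only [Set.mem_insert_iff, Set.mem_singleton_iff]; exact hd₂ z⟩
    calc Nat.card Z ≤ Nat.card S := Nat.card_le_card_of_injective (fun z => ⟨φ z, h0 z⟩)
          fun a b h => hφ (congrArg Subtype.val h)
      _ = S.ncard := Nat.card_coe_set_eq S
      _ = ({1, d₁} : Set Z).ncard * ({1, d₂} : Set Z).ncard := Set.ncard_prod
      _ ≤ 2 * 2 := Nat.mul_le_mul ((Set.ncard_insert_le _ _).trans (by simp))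
          ((Set.ncard_insert_le _ _).trans (by simp))
      _ = 4 := rfl
  have hZp : IsPGroup 2 Z := fun z => ⟨1, Subtype.ext (by simpa using z.2.2.1)⟩
  obtain ⟨n, hn⟩ := hZp.exists_card_eq
  have hne := omegaCore_ne_bot hF
  have hn0 : n ≠ 0 := fun e => hne (Subgroup.card_eq_one.mp (by rw [hn, e, pow_zero]))
  have hn3 : n < 3 := by
    by_contra h
    have := Nat.pow_le_pow_right (two_pos) (not_lt.mp h)
    omega
  have hn1 : n ≠ 1 := by
    intro e
    rw [e, pow_one] at hn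
    obtain ⟨⟨z, hz⟩, hz1⟩ := Subgroup.ne_bot_iff_exists_ne_one.1 hne
    have hz1' : z ≠ 1 := fun e => hz1 (Subtype.ext e)
    have hc : ∀ g : G, Commute g z := by
      intro g
      by_contra hgc
      have hm : g * z * g⁻¹ ∈ Z := Subgroup.Normal.conj_mem inferInstance z hz g
      have h3 : ({1, ⟨z, hz⟩, ⟨_, hm⟩} : Finset Z).card = 3 := by
        rw [Finset.card_insert_of_notMem, Finset.card_pair]
        · exact fun e' => hgc (mul_inv_eq_iff_eq_mul.mp (congrArg Subtype.val e').symm)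
        · simp only [Finset.mem_insert, Finset.mem_singleton, not_or]
          exact ⟨fun e' => hz1' (congrArg Subtype.val e').symm,
            fun e' => hz1' (conj_eq_one_iff.mp (congrArg Subtype.val e').symm)⟩
      haveI := Fintype.ofFinite Z
      have := Finset.card_le_univ ({1, ⟨z, hz⟩, ⟨_, hm⟩} : Finset Z)
      rw [h3, ← Nat.card_eq_fintype_card, hn] at this
      omega
    obtain ⟨k, hk⟩ := P.pow_eq_one_of_commute hG hz.1 hz1' (hc (y₁ * y₂))
    exact hw k (hk ▸ one_mem _)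
  rw [hn, show n = 2 by omega]; rfl

/-- The `2`-core coincides with its subgroup `omegaCore`. -/
theorem core_eq_omega (hF : Cfsg.pCore 2 G ≠ ⊥) : omegaCore 2 G = Cfsg.pCore 2 G := by
  set F := Cfsg.pCore 2 G
  set Z := omegaCore 2 G
  have hFp : IsPGroup 2 F := Fitting.pCore_isPGroup 2
  have hZ : Z ≠ ⊥ := omegaCore_ne_bot hF
  refine le_antisymm (omegaCore_le 2) ?_
  suffices hexp : ∀ f ∈ F, f ^ 2 = 1 by
    intro f hf
    refine ⟨hf, hexp f hf, fun g hg => ?_⟩
    have hinv : ∀ x ∈ F, x⁻¹ = x := fun x hx => inv_eq_of_mul_eq_one_left (by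
      rw [← pow_two]; exact hexp x hx)
    show f * g = g * f
    rw [← hinv (f * g) (mul_mem hf hg), mul_inv_rev, hinv f hf, hinv g hg]
  intro f hf
  by_contra hf2
  have hf1 : f ≠ 1 := fun e => hf2 (by rw [e, one_pow])
  have hZf : ∀ z ∈ Z, z ∈ P.comp f := fun z hz => by
    by_cases hz1 : z = 1
    · rw [hz1]; exact one_mem _
    · exact P.mem_of_commute (hz.2.2 f hf).symm hf1 (Or.inr fun e => hf2
        (orderOf_dvd_iff_pow_eq_one.mp (by rw [← e, orderOf_eq_prime hz.2.1 hz1])))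
  obtain ⟨⟨z₀, hz₀⟩, hz₀1⟩ := Subgroup.ne_bot_iff_exists_ne_one.1 hZ
  have hz₀1' : z₀ ≠ 1 := fun e => hz₀1 (Subtype.ext e)
  haveI : (P.comp f).Normal := normalizer_eq_top_iff.mp (eq_top_iff.mpr fun x _ =>
    P.mem_norm_of_conj_mem hf1 (hZf z₀ hz₀) hz₀1'
      (hZf _ (Subgroup.Normal.conj_mem inferInstance z₀ hz₀ x)))
  obtain h | ⟨r, hr, hWr⟩ := P.normal_comp hf1
  · exact hG h
  have hr2 : r = 2 := by
    by_contra hne
    exact hz₀1' (not_isPGroup_of_two hr Nat.prime_two hne hWr (hZf _ hz₀) hz₀.2.1)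
  subst hr2
  have hWF : P.comp f ≤ F := Fitting.le_pCore inferInstance hWr
  obtain ⟨y, -, hy, hy', -⟩ := P.exists_two_lifts hG hF
  obtain ⟨z, hz⟩ : ∃ z : Z, normHom y z ≠ 1 := by
    by_contra hne
    push Not at hne
    refine hy (P.centralizer_le_pCore hG (omegaCore_le 2) hZ
      (Subgroup.mem_centralizer_iff.mpr fun v hv => ?_))
    have := congrArg Subtype.val (hne ⟨v, hv⟩)
    rw [normHom_two, Subgroup.coe_one, mul_eq_one_iff_inv_eq] at this
    have hvi : v⁻¹ = v := inv_eq_of_mul_eq_one_left (by rw [← pow_two]; exact hv.2.1)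
    exact (mul_inv_eq_iff_eq_mul.mp (this.symm.trans hvi)).symm
  set d : Z := normHom y z with hd
  have hdne : (d : G) ≠ 1 := fun e => hz (Subtype.ext e)
  have hdy : Commute y (d : G) := by
    have h2 : y ^ 2 * z * (y ^ 2)⁻¹ = z := omega_act 2 _ hy' _ z.2
    have hyz : y * z * y⁻¹ ∈ Z := Subgroup.Normal.conj_mem inferInstance _ z.2 y
    refine mul_inv_eq_iff_eq_mul.mp ?_
    rw [hd, normHom_two]
    calc y * (z * (y * z * y⁻¹)) * y⁻¹ = (y * z * y⁻¹) * (y ^ 2 * z * (y ^ 2)⁻¹) := by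
          rw [pow_two]; group
      _ = _ := by rw [h2]; exact ((z.2).2.2 _ hyz.1).eq.symm
  obtain ⟨v, hv, hu⟩ : ∃ v ∈ Z, (v * y) ^ 2 ≠ 1 := by
    by_contra hne
    push Not at hne
    have e1 := hne 1 (one_mem Z)
    have e2 := hne z z.2
    rw [one_mul] at e1
    rw [mul_pow_normHom, e1, mul_one] at e2
    exact hdne e2
  have hu1 : v * y ≠ 1 := fun e => hu (by rw [e, one_pow])
  have hcd : Commute (v * y) (d : G) := (hv.2.2 _ d.2.1).mul_left hdy
  have hdu : (d : G) ∈ P.comp (v * y) := P.mem_of_commute hcd hu1 (Or.inr fun e => hu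
    (orderOf_dvd_iff_pow_eq_one.mp (by rw [← e, orderOf_eq_prime d.2.2.1 hdne])))
  have huy : v * y ∈ P.comp f :=
    (P.disjoint hu1 hf1 hdu (hZf _ d.2) hdne) ▸ P.mem _ hu1
  apply hy
  have := mul_mem (inv_mem (omegaCore_le 2 hv)) (hWF huy)
  rwa [inv_mul_cancel_left] at this

theorem index_eq_six (hF : Cfsg.pCore 2 G ≠ ⊥) : (Cfsg.pCore 2 G).index = 6 := by
  classical
  obtain ⟨y₁, y₂, -, -, -, -, hw⟩ := P.exists_two_lifts hG hF
  set F := Cfsg.pCore 2 G
  set Z := omegaCore 2 G with hZdef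
  have hZF : Z = F := P.core_eq_omega hG hF
  haveI := Fintype.ofFinite Z
  let T := {z : Z // z ≠ 1}
  have hT : Fintype.card T = 3 := by
    rw [Fintype.card_subtype_compl, Fintype.card_subtype_eq, ← Nat.card_eq_fintype_card,
      hZdef, P.card_omega hG hF]
  let α : G → T ≃ T := fun g =>
    (MulAut.conjNormal g : Z ≃* Z).toEquiv.subtypeEquiv fun z => by simp
  let ψ : G →* Equiv.Perm T :=
    { toFun := α
      map_one' := Equiv.ext fun z => Subtype.ext (Subtype.ext (by
        show (1 : G) * ((z.1 : Z) : G) * 1⁻¹ = ((z.1 : Z) : G)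
        simp))
      map_mul' := fun a b => Equiv.ext fun z => Subtype.ext (Subtype.ext (by
        show (a * b) * ((z.1 : Z) : G) * (a * b)⁻¹ = a * (b * ((z.1 : Z) : G) * b⁻¹) * a⁻¹
        group)) }
  have hker : ψ.ker = F := by
    refine le_antisymm (fun g hg => P.centralizer_le_pCore hG (omegaCore_le 2) (omegaCore_ne_bot hF)
      (Subgroup.mem_centralizer_iff.mpr fun v hv => ?_)) fun g hg => ?_
    · by_cases hv1 : v = 1
      · simp [hv1]
      · have := congrArg (fun e : Equiv.Perm T => ((e ⟨⟨v, hv⟩, fun e => hv1 (congrArg Subtype.val e)⟩).1 : G))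
          (MonoidHom.mem_ker.mp hg)
        simp [ψ, α] at this
        exact (mul_inv_eq_iff_eq_mul.mp this).symm
    · refine MonoidHom.mem_ker.mpr (Equiv.ext fun z => Subtype.ext (Subtype.ext ?_))
      show g * ((z.1 : Z) : G) * g⁻¹ = ((z.1 : Z) : G)
      exact omega_act 2 g hg _ z.1.2
  have hdvd : F.index ∣ 6 := by
    have h1 : Nat.card ψ.range ∣ Nat.card (Equiv.Perm T) := Subgroup.card_subgroup_dvd_card _
    rw [Nat.card_perm, Nat.card_eq_fintype_card (α := T), hT] at h1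
    rwa [← hker, Subgroup.index_ker]
  have h2 : 2 ∣ F.index := P.dvd_index hG hF
  have hcases : F.index = 2 ∨ F.index = 6 := by
    have := Nat.le_of_dvd (by norm_num) hdvd
    interval_cases h : F.index <;> simp_all
  refine hcases.resolve_left fun h => hw 1 ?_
  rw [pow_one]
  exact Subgroup.sq_mem_of_index_two h _

theorem equiv_perm_four (hF : Cfsg.pCore 2 G ≠ ⊥) : Nonempty (G ≃* Equiv.Perm (Fin 4)) := by
  classical
  set F := Cfsg.pCore 2 G
  have hZF : omegaCore 2 G = F := P.core_eq_omega hG hF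
  have hFcard : Nat.card F = 4 := by rw [← hZF]; exact P.card_omega hG hF
  have hcard : Nat.card G = 24 := by
    rw [← Subgroup.card_mul_index F, hFcard, P.index_eq_six hG hF]
  haveI : Fact (Nat.Prime 3) := ⟨Nat.prime_three⟩
  obtain ⟨S⟩ : Nonempty (Sylow 3 G) := inferInstance
  let ψ : G →* Equiv.Perm (Sylow 3 G) := MulAction.toPermHom G (Sylow 3 G)
  obtain ⟨c, hc⟩ := exists_prime_orderOf_dvd_card' (G := G) 3 (by rw [hcard]; norm_num)
  have hc1 : c ≠ 1 := fun e => by rw [e, orderOf_one] at hc; omega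
  have hFp : IsPGroup 2 F := Fitting.pCore_isPGroup 2
  have hcent : ∀ f ∈ F, f ≠ 1 → ¬ Commute c f := fun f hf hf1 =>
    P.not_commute hG Nat.prime_three (by norm_num) hc hf hf1
  haveI : ψ.ker.Normal := inferInstance
  have hKF : ∀ f ∈ F, f ∈ ψ.ker → f = 1 := by
    intro f hf hfk
    by_contra hf1
    obtain ⟨R, hR⟩ := (IsPGroup.of_card (n := 1) (G := zpowers c) (by
      rw [Nat.card_zpowers, hc, pow_one])).exists_le_sylow
    have hcR : c ∈ (R : Subgroup G) := hR (mem_zpowers c)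
    have hfR : f ∈ normalizer ((R : Subgroup G) : Set G) :=
      Sylow.smul_eq_iff_mem_normalizer.mp
        (congrArg (fun e : Equiv.Perm (Sylow 3 G) => e R) (MonoidHom.mem_ker.mp hfk))
    refine hcent f hf hf1 (Commute.symm ?_)
    have m1 : f * c * f⁻¹ * c⁻¹ ∈ (R : Subgroup G) :=
      mul_mem ((Subgroup.mem_normalizer_iff.mp hfR c).mp hcR) (inv_mem hcR)
    have m2 : f * c * f⁻¹ * c⁻¹ ∈ F := by
      have := mul_mem hf ((Fitting.pCore_normal (G := G) 2).conj_mem _ (inv_mem hf) c)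
      simpa [mul_assoc] using this
    obtain ⟨i, hi⟩ := R.2 ⟨_, m1⟩
    obtain ⟨j, hj⟩ := hFp ⟨_, m2⟩
    have h1 := eq_one_of_two_pows (Nat.Coprime.pow i j (by norm_num : Nat.Coprime 3 2))
      (congrArg Subtype.val hi) (congrArg Subtype.val hj)
    exact mul_inv_eq_iff_eq_mul.mp (mul_inv_eq_one.mp h1)
  have hinj : Function.Injective ψ := by
    rw [← MonoidHom.ker_eq_bot_iff]
    refine (Subgroup.eq_bot_iff_forall _).mpr fun g hg => ?_
    have hgF : g ∈ F := P.centralizer_le_pCore hG (le_refl F) hF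
      (Subgroup.mem_centralizer_iff.mpr fun f hf => ?_)
    · exact hKF g hgF hg
    · have hm1 : g * f * g⁻¹ * f⁻¹ ∈ F :=
        mul_mem ((Fitting.pCore_normal (G := G) 2).conj_mem f hf g) (inv_mem hf)
      have hm2 : g * f * g⁻¹ * f⁻¹ ∈ ψ.ker := by
        have := mul_mem hg (Subgroup.Normal.conj_mem inferInstance _ (inv_mem hg) f)
        simpa [mul_assoc] using this
      exact (mul_inv_eq_iff_eq_mul.mp (mul_inv_eq_one.mp (hKF _ hm1 hm2))).symm
  have hn : Nat.card (Sylow 3 G) = 4 := by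
    have h1 : Nat.card (Sylow 3 G) % 3 = 1 := card_sylow_modEq_one 3 G
    have h2 : Nat.card (Sylow 3 G) ∣ 8 := by
      have h3 : Nat.card (S : Subgroup G) = 3 := by
        rw [S.card_eq_multiplicity, hcard, show (24 : ℕ) = 3 ^ 1 * 8 from rfl,
          Nat.factorization_mul (by norm_num) (by norm_num), Finsupp.add_apply,
          Nat.Prime.factorization_pow Nat.prime_three, Finsupp.single_eq_same,
          Nat.factorization_eq_zero_of_not_dvd (by norm_num : ¬ 3 ∣ 8)]
        norm_num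
      have h4 := Subgroup.card_mul_index (S : Subgroup G)
      rw [h3, hcard] at h4
      have h5 : (S : Subgroup G).index = 8 := by omega
      exact h5 ▸ S.card_dvd_index
    have h3 : Nat.card G ≤ Nat.card (Equiv.Perm (Sylow 3 G)) :=
      Nat.card_le_card_of_injective ψ hinj
    rw [hcard, Nat.card_perm] at h3
    have := Nat.le_of_dvd (by norm_num) h2
    interval_cases h : Nat.card (Sylow 3 G) <;> simp_all [Nat.factorial]
  haveI := Fintype.ofFinite (Sylow 3 G)
  have hbij : Function.Bijective ψ := by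
    refine (Nat.bijective_iff_injective_and_card ψ).mpr ⟨hinj, ?_⟩
    rw [hcard, Nat.card_perm, hn]
    rfl
  exact ⟨(MulEquiv.ofBijective ψ hbij).trans
    ((Fintype.equivFinOfCardEq (Nat.card_eq_fintype_card.symm.trans hn)).permCongrHom)⟩

end Comp

/-- The statement for groups with a nontrivial `p`-core. -/
theorem perm_four_of_pCore (P : Comp G) (hG : ¬ Outcome G) {p : ℕ} (hp : p.Prime)
    (hF : Cfsg.pCore p G ≠ ⊥) : Nonempty (G ≃* Equiv.Perm (Fin 4)) := by
  haveI := Fact.mk hp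
  obtain rfl := P.eq_two hG hF
  exact P.equiv_perm_four hG hF

end Cfsg.Agent.PartitionGroups45
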