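import Cfsg.Agent.PartitionGroups45.Embedded

/-!
# The action on the cosets of the normaliser of the component of an involution
-/

set_option autoImplicit false
set_option linter.unusedSectionVars false
set_option linter.style.haveILetI false

namespace Cfsg.Agent.PartitionGroups45

open Subgroup MulAction Cfsg.Agent.Normalisers5

variable {G : Type*} [Group G] [Finite G]

/-- The cosets of the normaliser of the component of `t`. -/
abbrev Pts (P : Comp G) (t : G) := G ⧸ normalizer (P.comp t : Set G)

/-- The base point. -/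
abbrev base (P : Comp G) (t : G) : Pts P t := ((1 : G) : Pts P t)

/-- The involutions interchanging two points. -/
noncomputable def swappers (P : Comp G) (t : G) (a b : Pts P t) : Set G :=
  {v : G | orderOf v = 2 ∧ v • a = b ∧ v • b = a}

namespace Emb

variable {P : Comp G} {t : G} (h : Emb P t)
include h

theorem smul_base {g : G} : g • base P t = base P t ↔ g ∈ normalizer (P.comp t : Set G) := by
  rw [MulAction.Quotient.smul_coe, smul_eq_mul, mul_one, QuotientGroup.eq, mul_one, inv_mem_iff]

theorem fixes_iff {v c : G} (hv : orderOf v = 2) :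
    v • (c : Pts P t) = (c : Pts P t) ↔ c⁻¹ * v * c ∈ P.comp t := by
  have h2 : orderOf (c⁻¹ * v * c) = 2 := by
    simpa using (orderOf_conj_eq c⁻¹ v).trans hv
  rw [MulAction.Quotient.smul_coe, smul_eq_mul, eq_comm, QuotientGroup.eq, ← mul_assoc]
  exact ⟨fun hm => h.mem_of_involution hm h2, fun hm => le_normalizer hm⟩

theorem exists_fixed {v : G} (hv : orderOf v = 2) : ∃ a : Pts P t, v • a = a := by
  obtain ⟨g, hg⟩ := h.exists_conj_mem hv
  exact ⟨_, (h.fixes_iff (c := g⁻¹) hv).mpr (by simpa using hg)⟩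

theorem fixed_unique {v : G} (hv : orderOf v = 2) {a b : Pts P t} (ha : v • a = a)
    (hb : v • b = b) : a = b := by
  obtain ⟨c, rfl⟩ := QuotientGroup.mk_surjective a
  obtain ⟨d, rfl⟩ := QuotientGroup.mk_surjective b
  have hc := (h.fixes_iff hv).mp ha
  have hd := (h.fixes_iff hv).mp hb
  rw [QuotientGroup.eq, ← inv_mem_iff, mul_inv_rev, inv_inv]
  refine h.mem_norm hc ?_ ?_
  · exact ne_one_of_two (by simpa using (orderOf_conj_eq c⁻¹ v).trans hv)
  · simpa [mul_assoc] using hd

theorem two_odd {x : G} {a b : Pts P t} (hab : a ≠ b) (ha : x • a = a) (hb : x • b = b) :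
    Odd (orderOf x) := by
  refine Nat.not_even_iff_odd.mp fun he => hab ?_
  refine h.fixed_unique (orderOf_iota he) ?_ ?_
  · exact (MulAction.stabilizer G a).pow_mem ha _
  · exact (MulAction.stabilizer G b).pow_mem hb _

theorem two_inf_comp {b : Pts P t} (hb : b ≠ base P t) {u : G}
    (hu : u ∈ swappers P t (base P t) b) {x : G} (hxb : x • b = b) (hx : x ∈ P.comp t) :
    x = 1 := by
  obtain ⟨hu2, hu1, hub⟩ := hu
  have huu := mul_self_eq_one hu2
  have hui := inv_eq_self' hu2
  have huM : u ∉ normalizer (P.comp t : Set G) := fun hm =>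
    hb (hu1.symm.trans (h.smul_base.mpr hm))
  have hxo : x • base P t = base P t := h.smul_base.mpr (le_normalizer hx)
  have hx'M : u * x * u ∈ normalizer (P.comp t : Set G) :=
    h.smul_base.mp (by rw [mul_smul, mul_smul, hu1, hxb, hub])
  by_contra hx1
  set x' := u * x * u with hx'def
  have hx'1 : x' ≠ 1 := fun e => hx1 (by
    calc x = u * (u * x * u) * u := by simp only [mul_assoc, huu, mul_one]; rw [← mul_assoc, huu, one_mul]
      _ = 1 := by rw [← hx'def, e, mul_one, huu])
  have hux : u * x' * u = x := by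
    rw [hx'def]; simp only [mul_assoc, huu, mul_one]; rw [← mul_assoc, huu, one_mul]
  -- the two components meet trivially
  have hdisj : ∀ y ∈ P.comp t, u * y * u ∈ P.comp t → y = 1 := fun y hy hy' => by
    by_contra hy1
    exact huM (h.mem_norm hy hy1 (by rwa [hui]))
  have hcomm : Commute x x' := by
    have h1 : x * x' * x⁻¹ * x'⁻¹ ∈ P.comp t := by
      have := mul_mem hx ((Subgroup.mem_normalizer_iff.mp hx'M x⁻¹).mp (inv_mem hx))
      simpa [mul_assoc] using this
    have h2 : u * (x * x' * x⁻¹ * x'⁻¹) * u ∈ P.comp t := by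
      have e : u * (x * x' * x⁻¹ * x'⁻¹) * u = x' * x * x'⁻¹ * x⁻¹ := by
        calc u * (x * x' * x⁻¹ * x'⁻¹) * u
            = (u * x * u⁻¹) * (u * x' * u⁻¹) * (u * x * u⁻¹)⁻¹ * (u * x' * u⁻¹)⁻¹ * (u * u) := by
              group
          _ = _ := by rw [hui, hux, ← hx'def, huu, mul_one]
      rw [e]
      exact mul_mem ((Subgroup.mem_normalizer_iff.mp hx'M x).mp hx) (inv_mem hx)
    have := hdisj _ h1 h2
    exact mul_inv_eq_iff_eq_mul.mp (mul_inv_eq_one.mp this)
  set e := x * x' with he
  have hxo' : Odd (orderOf x) := h.two_odd hb hxb hxo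
  have he1 : e ≠ 1 := fun e' => hx1 (hdisj x hx (by
    rw [← hx'def, eq_inv_of_mul_eq_one_right e']; exact inv_mem hx))
  have heu : Commute e u := by
    show e * u = u * e
    rw [he]
    calc x * x' * u = x' * x * u := by rw [hcomm.eq]
      _ = u * (x * x') := by rw [hx'def]; simp only [mul_assoc]
  have hord' : orderOf x' = orderOf x := by
    rw [hx'def]; nth_rewrite 2 [← hui]; exact orderOf_conj_eq u x
  have heo : Odd (orderOf e) := Odd.of_dvd_nat (hxo'.mul (hord' ▸ hxo' : Odd (orderOf x')))
    ((hcomm.orderOf_mul_dvd_lcm).trans (Nat.lcm_dvd_mul _ _))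
  have heW : e ∈ P.comp u := by
    refine P.mem_of_commute heu.symm (ne_one_of_two hu2) (Or.inr fun e' => ?_)
    rw [e', hu2] at heo
    exact Nat.not_even_iff_odd.mpr heo even_two
  have hxN : x ∈ normalizer (P.comp u : Set G) :=
    P.mem_norm_of_commute (ne_one_of_two hu2) heW he1 ((Commute.refl x).mul_right hcomm)
  -- transport to the base point
  obtain ⟨g, hg⟩ := h.exists_conj_mem hu2
  have hs2 : orderOf (g * u * g⁻¹) = 2 := by rw [orderOf_conj_eq, hu2]
  set s' := x * u * x⁻¹ with hs'
  have hs'W : s' ∈ P.comp u :=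
    (Subgroup.mem_normalizer_iff.mp hxN u).mp (P.mem u (ne_one_of_two hu2))
  have hgs' : g * s' * g⁻¹ ∈ P.comp t := by
    have e' := P.conj_mem g _ _ hs'W
    rwa [P.eq_of_mem t _ h.ne_one hg (ne_one_of_two hs2)] at e'
  have hcu : Commute u s' := by
    have h2' : orderOf (g * s' * g⁻¹) = 2 := by rw [orderOf_conj_eq, hs', orderOf_conj_eq, hu2]
    exact (Commute.conj_iff g).mp (h.central hgs' h2' _ hg)
  set y := u * s' with hy
  have hyy : y * y = 1 := by
    calc y * y = (u * u) * (s' * s') := by
          rw [hy]; simp only [mul_assoc]; rw [← mul_assoc s' u, ← hcu.eq, mul_assoc u s']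
      _ = 1 := by
          rw [huu, one_mul, hs', show x * u * x⁻¹ * (x * u * x⁻¹) = x * (u * u) * x⁻¹ by group, huu,
            mul_one, mul_inv_cancel]
  have hyx : y = x' * x⁻¹ := by rw [hy, hs', hx'def]; simp only [mul_assoc]
  have hyo : Odd (orderOf y) := by
    rw [hyx]
    exact Odd.of_dvd_nat ((hord' ▸ hxo' : Odd (orderOf x')).mul (show Odd (orderOf x⁻¹) by rwa [orderOf_inv]))
      (((hcomm.symm.inv_right).orderOf_mul_dvd_lcm).trans (Nat.lcm_dvd_mul _ _))
  have hy1 : y = 1 := by
    by_contra hy1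
    rw [orderOf_two hyy hy1] at hyo
    exact Nat.not_even_iff_odd.mpr hyo even_two
  rw [hyx, mul_inv_eq_one] at hy1
  exact hx1 (hdisj x hx (by rw [← hx'def, hy1]; exact hx))

theorem card_two_le {b : Pts P t} (hb : b ≠ base P t) (hne : (swappers P t (base P t) b).Nonempty) :
    Nat.card ↥(stabilizer G (base P t) ⊓ stabilizer G b) ≤
      ((P.comp t).subgroupOf (normalizer (P.comp t : Set G))).index := by
  obtain ⟨u, hu⟩ := hne
  refine Nat.card_le_card_of_injective (fun d =>
    ((⟨(d : G), h.smul_base.mp d.2.1⟩ : normalizer (P.comp t : Set G)) :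
      normalizer (P.comp t : Set G) ⧸ (P.comp t).subgroupOf (normalizer (P.comp t : Set G)))) ?_
  intro d d' hdd
  have hm : (d : G)⁻¹ * d' ∈ P.comp t :=
    (QuotientGroup.eq (s := (P.comp t).subgroupOf (normalizer (P.comp t : Set G)))).mp hdd
  have h1 := h.two_inf_comp hb hu ((stabilizer G b).mul_mem ((stabilizer G b).inv_mem d.2.2) d'.2.2) hm
  exact Subtype.ext (inv_mul_eq_one.mp h1)

end Emb

end Cfsg.Agent.PartitionGroups45
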