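import Cfsg.Agent.PartitionGroups45.Basic
import Cfsg.Agent.PartitionGroups45.Kill
import Cfsg.Agent.Lib.Solvable.Basic

/-!
# Small lemmas on quotients
-/

set_option autoImplicit false
set_option linter.unusedSectionVars false

namespace Cfsg.Agent.PartitionGroups45

open Subgroup
open scoped IsMulCommutative

variable {G : Type*} [Group G]

theorem mk_pow_eq_one {N : Subgroup G} [N.Normal] {g : G} {n : ℕ} :
    (g : G ⧸ N) ^ n = 1 ↔ g ^ n ∈ N := by
  rw [← QuotientGroup.mk_pow, QuotientGroup.eq_one_iff]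

theorem mk_ne_one {N : Subgroup G} [N.Normal] {g : G} : (g : G ⧸ N) ≠ 1 ↔ g ∉ N :=
  not_congr (QuotientGroup.eq_one_iff g)

/-- Elements of coprime orders generate a group of order divisible by both. -/
theorem eq_one_of_two_pows {g : G} {m n : ℕ} (hmn : m.Coprime n) (hm : g ^ m = 1)
    (hn : g ^ n = 1) : g = 1 := by
  have := pow_gcd_eq_one.mpr ⟨hm, hn⟩
  rwa [hmn.gcd_eq_one, pow_one] at this

theorem not_isPGroup_of_two [Finite G] {p q : ℕ} (hp : p.Prime) (hq : q.Prime) (hne : p ≠ q)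
    {H : Subgroup G} (hH : IsPGroup p H) {g : G} (hg : g ∈ H) (hgq : g ^ q = 1) : g = 1 := by
  obtain ⟨k, hk⟩ := hH ⟨g, hg⟩
  exact eq_one_of_two_pows (Nat.Coprime.pow_left k ((Nat.coprime_primes hp hq).mpr hne))
    (congrArg Subtype.val hk) hgq

/-- The descent of the action on an abelian normal subgroup to a quotient acting trivially. -/
noncomputable def quotEnd (N V : Subgroup G) [N.Normal] [V.Normal] [IsMulCommutative V]
    (h : ∀ n ∈ N, ∀ v ∈ V, n * v * n⁻¹ = v) : G ⧸ N →* AddMonoid.End (Additive V) :=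
  QuotientGroup.lift N (actEnd V) fun n hn => actEnd_eq_one V (h n hn)

theorem quotEnd_mk (N V : Subgroup G) [N.Normal] [V.Normal] [IsMulCommutative V]
    (h : ∀ n ∈ N, ∀ v ∈ V, n * v * n⁻¹ = v) (g : G) :
    quotEnd N V h (g : G ⧸ N) = actEnd V g := rfl

theorem normZero_quotEnd (N V : Subgroup G) [N.Normal] [V.Normal] [IsMulCommutative V]
    (h : ∀ n ∈ N, ∀ v ∈ V, n * v * n⁻¹ = v)
    (hn : ∀ (g : G) (r : ℕ), r.Prime → g ∉ N → g ^ r ∈ N →
      ∑ i ∈ Finset.range r, actEnd V (g ^ i) = 0) : NormZero (quotEnd N V h) := by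
  intro x r hr hx hxr
  obtain ⟨g, rfl⟩ := QuotientGroup.mk_surjective x
  simp only [← QuotientGroup.mk_pow, quotEnd_mk]
  exact hn g r hr (mk_ne_one.mp hx) (mk_pow_eq_one.mp hxr)

/-- In a finite `p`-group of exponent `p` without a subgroup of type `p × p`, the order is `p`. -/
theorem card_eq_prime_of_noPair [Finite G] {p : ℕ} [Fact p.Prime] {S : Subgroup G}
    (hS : IsPGroup p S) (hS1 : S ≠ ⊥) (hexp : ∀ a ∈ S, a ^ p = 1)
    (h2 : ∀ a b : G, a ≠ 1 → a ^ p = 1 → b ^ p = 1 → Commute a b → b ∈ zpowers a) :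
    Nat.card S = p := by
  haveI : Nontrivial S := (nontrivial_iff_ne_bot S).mpr hS1
  obtain ⟨⟨c, hc⟩, hc1⟩ := Subgroup.ne_bot_iff_exists_ne_one.1
    (PGroup.inf_center_ne_bot (N := (⊤ : Subgroup S)) hS top_ne_bot)
  have hc1' : (c : G) ≠ 1 := fun e => hc1 (Subtype.ext (Subtype.ext e))
  have hle : S = zpowers (c : G) := le_antisymm (fun b hb => h2 (c : G) b hc1' (hexp _ c.2)
    (hexp b hb) (congrArg Subtype.val (mem_center_iff.mp (mem_inf.mp hc).2 ⟨b, hb⟩).symm))
    ((zpowers_le).mpr c.2)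
  rw [hle, Nat.card_zpowers, orderOf_eq_prime (hexp _ c.2) hc1']

/-- A group with self-centralising Sylow subgroups of order `p`, no two generated subgroup of
type `q × q` and none of type `q : s` has order `p`. -/
theorem card_eq_prime_of_noPair_noFrob {Q : Type*} [Group Q] [Finite Q] {p : ℕ} [Fact p.Prime]
    (hp : p ∣ Nat.card Q)
    (hexp : ∀ (g : Q) (k : ℕ), g ^ p ^ k = 1 → g ^ p = 1)
    (hcent : ∀ y w : Q, ∀ q : ℕ, q.Prime → q ≠ p → y ≠ 1 → y ^ p = 1 → w ^ q = 1 →
      Commute y w → w = 1)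
    (h2 : ∀ (q : ℕ) (a b : Q), q.Prime → a ≠ 1 → a ^ q = 1 → b ^ q = 1 → Commute a b →
      b ∈ zpowers a)
    (hf : ∀ (q s : ℕ) (a b : Q), q.Prime → s.Prime → a ≠ 1 → a ^ q = 1 → b ^ s = 1 →
      b * a * b⁻¹ ∈ zpowers a → Commute a b) : Nat.card Q = p := by
  have hp' : p.Prime := Fact.out
  obtain ⟨S⟩ : Nonempty (Sylow p Q) := inferInstance
  have hSexp : ∀ a ∈ (S : Subgroup Q), a ^ p = 1 := fun a ha => by
    obtain ⟨k, hk⟩ := S.2 ⟨a, ha⟩
    exact hexp a k (congrArg Subtype.val hk)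
  have hcard : Nat.card (S : Subgroup Q) = p :=
    card_eq_prime_of_noPair S.2 (S.ne_bot_of_dvd_card hp) hSexp
      fun a b ha1 ha hb hc => h2 p a b hp' ha1 ha hb hc
  obtain ⟨⟨a, haS⟩, ha1⟩ := Subgroup.ne_bot_iff_exists_ne_one.1 (S.ne_bot_of_dvd_card hp)
  have ha1' : a ≠ 1 := fun e => ha1 (Subtype.ext e)
  have hSa : (S : Subgroup Q) = zpowers a := by
    refine (Subgroup.eq_of_le_of_card_ge (zpowers_le.mpr haS) ?_).symm
    rw [hcard, Nat.card_zpowers, orderOf_eq_prime (hSexp a haS) ha1']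
  have hN : normalizer ((S : Subgroup Q) : Set Q) ≤ centralizer ((S : Subgroup Q) : Set Q) := by
    intro g hg
    have key : ∀ x ∈ normalizer ((S : Subgroup Q) : Set Q), Commute a x := by
      intro x hx
      by_cases hxS : x ∈ (S : Subgroup Q)
      · rw [hSa] at hxS
        obtain ⟨j, rfl⟩ := mem_zpowers_iff.mp hxS
        exact (Commute.refl a).zpow_right j
      · by_contra hnc
        obtain ⟨k, r, hr, -, hk, hkr⟩ := exists_prime_step (centralizer ({a} : Set Q)) (orderOf x) x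
          (orderOf_pos x) (fun h => hnc (mem_centralizer_singleton_iff.mp h).symm)
          (by rw [pow_orderOf_eq_one]; exact one_mem _)
        set y := x ^ k
        have hy : ∀ i : ℕ, y ^ i * a * (y ^ i)⁻¹ ∈ zpowers a := fun i => by
          rw [← hSa]; exact (Subgroup.mem_normalizer_iff.mp (pow_mem (pow_mem hx k) i) a).mp haS
        have hc : Commute a (y ^ r) := (mem_centralizer_singleton_iff.mp hkr).symm
        obtain ⟨j, hj⟩ : ∃ j : ℕ, (y ^ r) ^ p ^ j = 1 := by
          by_contra hne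
          push Not at hne
          obtain ⟨j, m, hm, hjm⟩ :=
            Nat.exists_eq_pow_mul_and_not_dvd (orderOf_pos (y ^ r)).ne' p hp'.ne_one
          obtain ⟨q, hq, hqm⟩ := Nat.exists_prime_and_dvd (n := m) fun e => hne j
            (by rw [← orderOf_dvd_iff_pow_eq_one, hjm, e, mul_one])
          have hqo : q ∣ orderOf (y ^ r) := hjm ▸ hqm.trans (Dvd.intro_left _ rfl)
          have ho := orderOf_pow_orderOf_div (orderOf_pos (y ^ r)).ne' hqo
          have h1 := hcent a ((y ^ r) ^ (orderOf (y ^ r) / q)) q hq (fun e => hm (e ▸ hqm)) ha1'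
            (hSexp a haS) (orderOf_dvd_iff_pow_eq_one.mp ho.dvd) (hc.pow_right _)
          rw [h1, orderOf_one] at ho
          exact hq.ne_one ho.symm
        have hyp : y ^ p = 1 := by
          by_cases hrp : r = p
          · exact hexp y (j + 1) (by rw [pow_succ', pow_mul, ← hrp, hrp]; rwa [hrp] at hj)
          · refine hexp y j ?_
            have hz : (y ^ p ^ j) ^ r = 1 := by rw [← pow_mul, mul_comm, pow_mul, hj]
            exact hcent a _ r hr hrp ha1' (hSexp a haS) hz
              (hf p r a _ hp' hr ha1' (hSexp a haS) hz (hy _))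
        exact hk (mem_centralizer_singleton_iff.mpr (hf p p a y hp' hp' ha1' (hSexp a haS) hyp
          (by simpa using hy 1)).eq.symm)
    refine Subgroup.mem_centralizer_iff.mpr fun h hh => ?_
    rw [SetLike.mem_coe, hSa] at hh
    obtain ⟨j, rfl⟩ := mem_zpowers_iff.mp hh
    exact ((key g hg).zpow_left j).eq
  have hc := MonoidHom.ker_transferSylow_isComplement' S hN
  set K := (MonoidHom.transferSylow S hN).ker
  by_contra hQ
  have hKidx : K.index = p := by rw [hc.symm.index_eq_card, hcard]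
  have hK1 : Nat.card K ≠ 1 := fun e => hQ (by
    rw [← Subgroup.card_mul_index K, e, one_mul, hKidx])
  obtain ⟨r, hr, hrK⟩ := Nat.exists_prime_and_dvd hK1
  haveI := Fact.mk hr
  have hrp : r ≠ p := fun e => by
    apply S.not_dvd_index
    rw [hc.index_eq_card]
    exact e ▸ hrK
  obtain ⟨R⟩ : Nonempty (Sylow r K) := inferInstance
  set R' : Subgroup Q := (R : Subgroup K).map K.subtype with hR'
  have htop : normalizer (R' : Set Q) ⊔ K = ⊤ := by
    rw [hR']; exact Sylow.normalizer_sup_eq_top R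
  have hpN : p ∣ Nat.card (normalizer (R' : Set Q)) := by
    have h := Solvable.card_sup_mul_card_inf (normalizer (R' : Set Q)) K
    rw [htop, Subgroup.card_top, ← Subgroup.card_mul_index K, hKidx] at h
    have h' : Nat.card K * (p * Nat.card (normalizer (R' : Set Q) ⊓ K : Subgroup Q)) =
        Nat.card K * Nat.card (normalizer (R' : Set Q)) := by
      rw [← mul_assoc, h, mul_comm]
    exact ⟨_, (Nat.eq_of_mul_eq_mul_left Nat.card_pos h').symm⟩
  obtain ⟨⟨b, hb⟩, hbo⟩ := exists_prime_orderOf_dvd_card' p hpN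
  rw [Subgroup.orderOf_mk] at hbo
  have hb1 : b ≠ 1 := fun e => hp'.ne_one (by rw [← hbo, e, orderOf_one])
  have hbp : b ^ p = 1 := by rw [← hbo]; exact pow_orderOf_eq_one b
  have hR1 : (R : Subgroup K) ≠ ⊥ := R.ne_bot_of_dvd_card hrK
  have hR'p : IsPGroup r R' := R.2.map K.subtype
  haveI : Nontrivial (R' : Subgroup Q) := (nontrivial_iff_ne_bot _).mpr (by
    rwa [hR', Ne, Subgroup.map_eq_bot_iff_of_injective _ K.subtype_injective])
  obtain ⟨z, hz⟩ := exists_prime_orderOf_dvd_card' (G := center R') r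
    (PGroup.dvd_card_center hR'p)
  set c : Q := ((z : R') : Q)
  have hco : orderOf c = r := by rw [Subgroup.orderOf_coe, Subgroup.orderOf_coe, hz]
  have hc1 : c ≠ 1 := fun e => hr.ne_one (by rw [← hco, e, orderOf_one])
  have hcr : c ^ r = 1 := by rw [← hco]; exact pow_orderOf_eq_one c
  have hd : b * c * b⁻¹ ∈ R' := (Subgroup.mem_normalizer_iff.mp hb c).mp z.1.2
  have hcd : Commute c (b * c * b⁻¹) :=
    (congrArg Subtype.val (mem_center_iff.mp z.2 ⟨_, hd⟩)).symm
  have hmem := h2 r c _ hr hc1 hcr (by rw [conj_pow, hcr, mul_one, mul_inv_cancel]) hcd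
  exact hc1 (hcent b c r hr hrp hb1 hbp hcr (hf r p c b hr hp' hc1 hcr hbp hmem).symm)

end Cfsg.Agent.PartitionGroups45
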